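import Cfsg.Agent.Lib.FLU.Defs

/-! # Equivalence of representations from dimensions of intertwining spaces -/

set_option autoImplicit false

namespace H73.FL

open Subgroup Cfsg H69 Matrix
open Equiv (Perm)
open scoped MatrixGroups

variable {ι K P : Type*} [Fintype ι] [DecidableEq ι] [Field K] [Group P] {α β : P →* GL ι K}

namespace CONJ

theorem mem_iff {X : Matrix ι ι K} :
    X ∈ HomSp α β ↔ ∀ x, (β x : Matrix ι ι K) * X = X * α x := Iff.rfl

theorem mul_mem' {γ : P →* GL ι K} {X Y : Matrix ι ι K} (hX : X ∈ HomSp β γ)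
    (hY : Y ∈ HomSp α β) : X * Y ∈ HomSp α γ := fun x => by
  rw [← Matrix.mul_assoc, hX x, Matrix.mul_assoc, hY x, Matrix.mul_assoc]

theorem one_mem' : (1 : Matrix ι ι K) ∈ HomSp α α := fun x => by
  rw [Matrix.mul_one, Matrix.one_mul]

theorem le_of_conj (γ : P →* GL ι K) {g : GL ι K} (h : ∀ x, β x = g * α x * g⁻¹) :
    Module.finrank K (HomSp γ α) ≤ Module.finrank K (HomSp γ β) := by
  have hg : (g : Matrix ι ι K) ∈ HomSp α β := fun x => by
    rw [← Units.val_mul, ← Units.val_mul, h x, inv_mul_cancel_right]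
  let f : HomSp γ α →ₗ[K] HomSp γ β :=
    { toFun := fun X => ⟨g * X, mul_mem' hg X.2⟩
      map_add' := fun X Y => Subtype.ext (Matrix.mul_add _ _ _)
      map_smul' := fun c X => Subtype.ext (Matrix.mul_smul _ _ _) }
  refine LinearMap.finrank_le_finrank_of_injective (f := f) fun X Y e => Subtype.ext ?_
  have e1 : (g : Matrix ι ι K) * X = g * Y := congrArg Subtype.val e
  exact (Units.mul_right_inj g).1 e1

theorem eq_of_conj (γ : P →* GL ι K) {g : GL ι K} (h : ∀ x, β x = g * α x * g⁻¹) :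
    Module.finrank K (HomSp γ α) = Module.finrank K (HomSp γ β) :=
  le_antisymm (le_of_conj γ h) (le_of_conj γ (g := g⁻¹) fun x => by rw [h x]; group)

theorem ginv (X : Matrix ι ι K) : ∃ Y : Matrix ι ι K, X * Y * X = X := by
  obtain ⟨g, hg⟩ := (toLin' X).rangeRestrict.exists_rightInverse_of_surjective
    (LinearMap.range_rangeRestrict _)
  obtain ⟨g', hg'⟩ := LinearMap.exists_extend g
  refine ⟨LinearMap.toMatrix' g', toLin'.injective ?_⟩
  rw [toLin'_mul, toLin'_mul, toLin'_toMatrix']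
  ext1 i
  ext1
  have h1 := LinearMap.congr_fun hg ((toLin' X).rangeRestrict (Pi.single i 1))
  have h2 := LinearMap.congr_fun hg' ((toLin' X).rangeRestrict (Pi.single i 1))
  simp only [LinearMap.comp_apply, LinearMap.id_apply] at h1 h2
  have h3 := congrArg Subtype.val h1
  rw [← h2] at h3
  exact h3

theorem reg [Finite P] (hP : (Nat.card P : K) ≠ 0) {X : Matrix ι ι K} (hX : X ∈ HomSp α β) :
    ∃ Y ∈ HomSp β α, X * Y * X = X := by
  haveI := Fintype.ofFinite P
  obtain ⟨Y, hY⟩ := ginv X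
  refine ⟨(Nat.card P : K)⁻¹ • ∑ x, (α x⁻¹ : Matrix ι ι K) * Y * β x, Submodule.smul_mem _ _ ?_, ?_⟩
  · intro y
    rw [Finset.mul_sum, Finset.sum_mul]
    refine Fintype.sum_equiv (Equiv.mulRight y⁻¹) _ _ fun x => ?_
    simp only [Equiv.coe_mulRight, _root_.mul_inv_rev, inv_inv, map_mul, Units.val_mul,
      Matrix.mul_assoc]
    rw [← Units.val_mul, ← map_mul, inv_mul_cancel, map_one, Units.val_one, Matrix.mul_one]
  · have h1 : ∀ x, X * ((α x⁻¹ : Matrix ι ι K) * Y * β x) * X = X := by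
      intro x
      rw [← Matrix.mul_assoc, ← Matrix.mul_assoc, ← hX, Matrix.mul_assoc _ _ X, hX x,
        ← Matrix.mul_assoc, Matrix.mul_assoc _ X Y, Matrix.mul_assoc _ _ X, hY, hX,
        Matrix.mul_assoc, ← Units.val_mul, ← map_mul, inv_mul_cancel, map_one, Units.val_one,
        Matrix.mul_one]
    rw [Matrix.mul_smul, Matrix.smul_mul, Finset.mul_sum, Finset.sum_mul]
    simp only [h1, Finset.sum_const, Finset.card_univ]
    rw [← Nat.cast_smul_eq_nsmul K, smul_smul, ← Nat.card_eq_fintype_card, inv_mul_cancel₀ hP,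
      one_smul]

end CONJ

open CONJ

theorem rank_of_conj {g : GL ι K} (h : ∀ x, β x = g * α x * g⁻¹) :
    Module.finrank K (HomSp α α) = Module.finrank K (HomSp α β) ∧
      Module.finrank K (HomSp β β) = Module.finrank K (HomSp β α) :=
  ⟨eq_of_conj α h, (eq_of_conj β h).symm⟩

theorem conj_of_rank [Finite P] (hP : (Nat.card P : K) ≠ 0)
    (h1 : Module.finrank K (HomSp α α) = Module.finrank K (HomSp α β))
    (h2 : Module.finrank K (HomSp β β) = Module.finrank K (HomSp β α)) :
    ∃ g : GL ι K, ∀ x, β x = g * α x * g⁻¹ := by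
  obtain ⟨_, ⟨X, hX, rfl⟩, hmin⟩ := WellFounded.has_min (wellFounded_lt (α := Submodule K (ι → K)))
    {S | ∃ X ∈ HomSp α β, S = LinearMap.ker (toLin' X)} ⟨_, 0, zero_mem _, rfl⟩
  obtain ⟨Y, hY, e⟩ := reg hP hX
  obtain ⟨E, hE⟩ : ∃ E, E = 1 - Y * X := ⟨_, rfl⟩
  obtain ⟨F, hF⟩ : ∃ F, F = 1 - X * Y := ⟨_, rfl⟩
  have Em : E ∈ HomSp α α := hE ▸ sub_mem one_mem' (mul_mem' hY hX)
  have Fm : F ∈ HomSp β β := hF ▸ sub_mem one_mem' (mul_mem' hX hY)
  have XE : X * E = 0 := by rw [hE, Matrix.mul_sub, Matrix.mul_one, ← Matrix.mul_assoc, e, sub_self]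
  have FX : F * X = 0 := by rw [hF, Matrix.sub_mul, Matrix.one_mul, e, sub_self]
  have EE : E * E = E := by
    nth_rewrite 1 [hE]
    rw [Matrix.sub_mul, Matrix.one_mul, Matrix.mul_assoc, XE, Matrix.mul_zero, sub_zero]
  have FF : F * F = F := by
    nth_rewrite 2 [hF]
    rw [Matrix.mul_sub, Matrix.mul_one, ← Matrix.mul_assoc, FX, Matrix.zero_mul, sub_zero]
  have XYF : X * Y * F = 0 := by
    rw [hF, Matrix.mul_sub, Matrix.mul_one, ← Matrix.mul_assoc, e, sub_self]
  have EYX : E * (Y * X) = 0 := by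
    rw [hE, Matrix.sub_mul, Matrix.one_mul, Matrix.mul_assoc, ← Matrix.mul_assoc X, e, sub_self]
  have k1 : ∀ T ∈ HomSp α β, F * T * E = 0 := by
    intro T hT
    by_contra hne
    apply hmin _ ⟨X + F * T * E, add_mem hX (mul_mem' (mul_mem' Fm hT) Em), rfl⟩
    refine lt_of_le_of_ne (fun v hv => ?_) fun hq => hne ?_
    · rw [LinearMap.mem_ker, toLin'_apply] at hv ⊢
      have h3 := congrArg (X * Y).mulVec hv
      rwa [mulVec_mulVec, Matrix.mul_add, e, ← Matrix.mul_assoc, ← Matrix.mul_assoc, XYF,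
        Matrix.zero_mul, Matrix.zero_mul, add_zero, mulVec_zero] at h3
    · refine toLin'.injective (LinearMap.ext fun v => ?_)
      have h3 : E.mulVec v ∈ LinearMap.ker (toLin' X) := by
        rw [LinearMap.mem_ker, toLin'_apply, mulVec_mulVec, XE, zero_mulVec]
      rw [← hq, LinearMap.mem_ker, toLin'_apply, mulVec_mulVec, Matrix.add_mul, XE, zero_add,
        Matrix.mul_assoc, EE] at h3
      rw [toLin'_apply, h3, map_zero, LinearMap.zero_apply]
  have k2 : ∀ Z ∈ HomSp β α, E * Z * F = 0 := by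
    intro Z hZ
    obtain ⟨T, hT, e'⟩ := reg hP (mul_mem' (mul_mem' Em hZ) Fm)
    rw [← e']
    calc E * Z * F * T * (E * Z * F) = E * Z * (F * T * E) * Z * F := by
          simp only [Matrix.mul_assoc]
      _ = 0 := by rw [k1 T hT]; simp
  let Ψ : HomSp α β × HomSp β α →ₗ[K] HomSp α α × HomSp β β :=
    { toFun := fun u => (⟨Y * u.1 + E * u.2 * X,
          add_mem (mul_mem' hY u.1.2) (mul_mem' (mul_mem' Em u.2.2) hX)⟩,
        ⟨X * u.2 + F * u.1 * Y, add_mem (mul_mem' hX u.2.2) (mul_mem' (mul_mem' Fm u.1.2) hY)⟩)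
      map_add' := fun u v => by
        ext1 <;> ext1 <;>
          simp only [Prod.fst_add, Prod.snd_add, Submodule.coe_add, Matrix.mul_add,
            Matrix.add_mul] <;> abel
      map_smul' := fun c u => by
        ext1 <;> ext1 <;>
          simp only [Prod.smul_fst, Prod.smul_snd, Submodule.coe_smul, Matrix.mul_smul,
            Matrix.smul_mul, RingHom.id_apply, smul_add] }
  have inj : Function.Injective Ψ := by
    rw [injective_iff_map_eq_zero]
    rintro ⟨⟨T, hT⟩, ⟨Z, hZ⟩⟩ h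
    have a1 : Y * T + E * Z * X = 0 := congrArg (fun u => (u.1 : Matrix ι ι K)) h
    have a2 : X * Z + F * T * Y = 0 := congrArg (fun u => (u.2 : Matrix ι ι K)) h
    have b1 : X * Y * T = 0 := by
      have := congrArg (X * ·) a1
      simp only [Matrix.mul_add, ← Matrix.mul_assoc, XE, Matrix.zero_mul, add_zero,
        Matrix.mul_zero] at this
      exact this
    have b2 : F * T * Y = 0 := by
      have := congrArg (F * ·) a2
      simp only [Matrix.mul_add, ← Matrix.mul_assoc, FX, FF, Matrix.zero_mul, zero_add,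
        Matrix.mul_zero] at this
      exact this
    have b3 : F * T = 0 := by
      have := k1 T hT
      rwa [hE, Matrix.mul_sub, Matrix.mul_one, ← Matrix.mul_assoc, b2, Matrix.zero_mul,
        sub_zero] at this
    have b4 : T = 0 := by
      rwa [hF, Matrix.sub_mul, Matrix.one_mul, b1, sub_zero] at b3
    subst b4
    rw [Matrix.mul_zero, zero_add] at a1
    rw [Matrix.mul_zero, Matrix.zero_mul, add_zero] at a2
    have b5 : E * Z = 0 := by
      have := k2 Z hZ
      rwa [hF, Matrix.mul_sub, Matrix.mul_one, ← Matrix.mul_assoc, a1, Matrix.zero_mul,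
        sub_zero] at this
    have b6 : Z = 0 := by
      rwa [hE, Matrix.sub_mul, Matrix.one_mul, Matrix.mul_assoc, a2, Matrix.mul_zero,
        sub_zero] at b5
    subst b6
    rfl
  have sur : Function.Surjective Ψ :=
    (LinearMap.injective_iff_surjective_of_finrank_eq_finrank
      (by rw [Module.finrank_prod, Module.finrank_prod, h1, h2])).1 inj
  obtain ⟨⟨⟨T, hT⟩, ⟨Z, hZ⟩⟩, h⟩ := sur (⟨1, one_mem'⟩, 0)
  have a1 : Y * T + E * Z * X = 1 := congrArg (fun u => (u.1 : Matrix ι ι K)) h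
  have E0 : E = 0 := by
    have h3 : T * E = X * Y * T * E := by
      have := k1 T hT
      rwa [hF, Matrix.sub_mul, Matrix.one_mul, Matrix.sub_mul, sub_eq_zero] at this
    calc E = E * (Y * T + E * Z * X) * E := by rw [a1, Matrix.mul_one, EE]
      _ = E * Y * (T * E) + E * E * Z * (X * E) := by
          simp only [Matrix.mul_add, Matrix.add_mul, Matrix.mul_assoc]
      _ = E * (Y * X) * Y * T * E := by
          rw [XE, h3]; simp only [Matrix.mul_zero, add_zero, Matrix.mul_assoc]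
      _ = 0 := by rw [EYX]; simp
  have YX : Y * X = 1 := by
    rw [E0] at hE
    exact (sub_eq_zero.1 hE.symm).symm
  refine ⟨⟨X, Y, mul_eq_one_comm.1 YX, YX⟩, fun x => ?_⟩
  rw [eq_mul_inv_iff_mul_eq]
  exact Units.ext (hX x)

end H73.FL
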