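import Cfsg.Agent.Lib.FLU.Defs
import Cfsg.Agent.Lib.GL.Basic
import Cfsg.Agent.Lib.Unitary.Order
import Cfsg.Agent.Lib.Fusion.Real2

/-! # Orders -/

set_option autoImplicit false

namespace H73.FL

open Subgroup Cfsg H69 Matrix
open Equiv (Perm)
open scoped MatrixGroups

namespace ORD

theorem val {m k : ℕ} (h : V2 m k) : padicValNat 2 m = k := by
  obtain ⟨u, hu, rfl⟩ := h
  rw [padicValNat.mul (by positivity) hu.pos.ne', padicValNat.prime_pow,
    padicValNat.eq_zero_of_not_dvd hu.not_two_dvd_nat, add_zero]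

theorem mul {m k m' k' : ℕ} (h : V2 m k) (h' : V2 m' k') : V2 (m * m') (k + k') := by
  obtain ⟨u, hu, rfl⟩ := h
  obtain ⟨u', hu', rfl⟩ := h'
  exact ⟨u * u', hu.mul hu', by ring⟩

theorem of_odd {m : ℕ} (h : Odd m) : V2 m 0 := ⟨m, h, by simp⟩

theorem of_int {z u : ℤ} {k : ℕ} (hu : Odd u) (h : z = 2 ^ k * u) : V2 z.natAbs k :=
  ⟨u.natAbs, Int.natAbs_odd.2 hu, by rw [h, Int.natAbs_mul, Int.natAbs_pow]; rfl⟩

theorem cancel {m k m' l : ℕ} (h : V2 m k) (h' : V2 (m * m') (k + l)) : V2 m' l := by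
  have h0 : m' ≠ 0 := by
    rintro rfl
    obtain ⟨u, hu, e⟩ := h'
    exact absurd e.symm (by simpa using hu.pos.ne')
  obtain ⟨j, u, hu, e⟩ := Nat.exists_eq_two_pow_mul_odd h0
  have h1 : V2 m' j := ⟨u, hu, e⟩
  have := (val (mul h h1)).symm.trans (val h')
  rwa [← Nat.add_left_cancel this]

theorem ee_cast (a : ℕ) (s : Bool) : (ee a s : ℤ) = 2 ^ a + bif s then 1 else -1 := by
  cases s
  · simp [ee, Nat.cast_sub Nat.one_le_two_pow, sub_eq_add_neg]
  · simp [ee]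

theorem par_iff {z : ℤ} {a : ℕ} {s : Bool} :
    Par z a s ↔ 2 ≤ a ∧ ∃ u : ℤ, Odd u ∧ z = 2 ^ a * u + bif s then 1 else -1 := by
  constructor
  · rintro ⟨h, md⟩
    obtain ⟨c, hc⟩ := md.symm.dvd
    rw [ee_cast] at hc
    exact ⟨h, 2 * c + 1, ⟨c, rfl⟩, by linear_combination hc⟩
  · rintro ⟨h, _, ⟨c, rfl⟩, e⟩
    refine ⟨h, (Int.modEq_iff_dvd.2 ⟨c, ?_⟩).symm⟩
    rw [ee_cast]
    linear_combination e

theorem par_four {z : ℤ} {a : ℕ} {s : Bool} (h : Par z a s) :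
    ∃ w : ℤ, z = 4 * w + bif s then 1 else -1 := by
  obtain ⟨ha, u, -, e⟩ := par_iff.1 h
  obtain ⟨b, rfl⟩ := Nat.exists_eq_add_of_le ha
  exact ⟨2 ^ b * u, by rw [e]; ring⟩

theorem sub_add {z : ℤ} {a : ℕ} {s : Bool} (h : Par z a s) :
    V2 (z - 1).natAbs (bif s then a else 1) ∧ V2 (z + 1).natAbs (bif s then 1 else a) := by
  obtain ⟨w, hw⟩ := par_four h
  obtain ⟨-, u, hu, e⟩ := par_iff.1 h
  cases s
  · exact ⟨of_int (u := 2 * w - 1) ⟨w - 1, by ring⟩ (by rw [hw]; simp; ring),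
      of_int hu (by rw [e]; simp)⟩
  · exact ⟨of_int hu (by rw [e]; simp), of_int (u := 2 * w + 1) ⟨w, rfl⟩ (by rw [hw]; simp; ring)⟩

theorem pows {z : ℤ} {a : ℕ} {s : Bool} (h : Par z a s) :
    V2 (z ^ 1 - 1).natAbs (bif s then a else 1) ∧ V2 (z ^ 2 - 1).natAbs (a + 1) ∧
      V2 (z ^ 3 - 1).natAbs (bif s then a else 1) ∧ V2 (z ^ 4 - 1).natAbs (a + 2) ∧
      V2 (z ^ 5 - 1).natAbs (bif s then a else 1) := by
  obtain ⟨h1, h2⟩ := sub_add h
  obtain ⟨k, hk⟩ : Odd z := by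
    obtain ⟨w, hw⟩ := par_four h
    cases s
    · exact ⟨2 * w - 1, by rw [hw]; simp; ring⟩
    · exact ⟨2 * w, by rw [hw]; simp; ring⟩
  have h3 : V2 (z ^ 2 - 1).natAbs (a + 1) := by
    rw [show z ^ 2 - 1 = (z - 1) * (z + 1) by ring, Int.natAbs_mul]
    have := mul h1 h2
    cases s
    · rwa [add_comm a]
    · exact this
  refine ⟨by rwa [pow_one], h3, ?_, ?_, ?_⟩
  · rw [show z ^ 3 - 1 = (z - 1) * (z ^ 2 + z + 1) by ring, Int.natAbs_mul]
    exact mul h1 (of_odd (Int.natAbs_odd.2 ⟨2 * k ^ 2 + 3 * k + 1, by rw [hk]; ring⟩))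
  · rw [show z ^ 4 - 1 = (z ^ 2 - 1) * (z ^ 2 + 1) by ring, Int.natAbs_mul]
    exact mul (k' := 1) h3 (of_int (z := z ^ 2 + 1) (k := 1) (u := 2 * (k ^ 2 + k) + 1) ⟨_, rfl⟩
      (by rw [hk]; ring))
  · rw [show z ^ 5 - 1 = (z - 1) * (z ^ 4 + z ^ 3 + z ^ 2 + z + 1) by ring, Int.natAbs_mul]
    exact mul h1 (of_odd (Int.natAbs_odd.2
      ⟨8 * k ^ 4 + 20 * k ^ 3 + 20 * k ^ 2 + 10 * k + 2, by rw [hk]; ring⟩))

theorem prod {z : ℤ} {n a : ℕ} {s : Bool} (h2 : 2 ≤ n) (h5 : n ≤ 5) (h : Par z a s) :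
    V2 (∏ i ∈ Finset.range n, (z ^ (i + 1) - 1).natAbs) (vG n a s) := by
  obtain ⟨p1, p2, p3, p4, p5⟩ := pows h
  interval_cases n <;> simp only [Finset.prod_range_succ, Finset.prod_range_zero, one_mul, zero_add,
    Nat.reduceAdd]
  · convert mul p1 p2 using 1; cases s <;> simp [vG] <;> omega
  · convert mul (mul p1 p2) p3 using 1; cases s <;> simp [vG] <;> omega
  · convert mul (mul (mul p1 p2) p3) p4 using 1; cases s <;> simp [vG] <;> omega
  · convert mul (mul (mul (mul p1 p2) p3) p4) p5 using 1; cases s <;> simp [vG] <;> omega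

theorem natAbs_sub {q : ℕ} (h : 0 < q) (k : ℕ) : ((q : ℤ) ^ k - 1).natAbs = q ^ k - 1 := by
  rw [← Nat.cast_pow, ← Nat.cast_one, ← Nat.cast_sub (Nat.one_le_pow _ _ h), Int.natAbs_natCast]

theorem card_ker (a d : ℕ) : Nat.card {x : CC a // x ^ d = 1} = Nat.gcd (2 ^ (a + 1)) d := by
  have := IsCyclic.card_powMonoidHom_ker (G := CC a) d
  rwa [show Nat.card (CC a) = 2 ^ (a + 1) by simp] at this

theorem card_left {n a : ℕ} {s : Bool} (h2 : 2 ≤ n) (h5 : n ≤ 5) (ha : 2 ≤ a) :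
    Nat.card {t : Fin n → CC a // ∀ i, t (ww n s i) ^ ee a s = t i} =
      2 ^ (bif s then n * a else n / 2 * (a + 1) + n % 2) := by
  have hC : Nat.card (CC a) = 2 ^ (a + 1) := by simp
  cases s
  · have e2 : ∀ x : CC a, (x ^ ee a false) ^ ee a false = x := fun x => by
      obtain ⟨b, rfl⟩ := Nat.exists_eq_add_of_le' (show 1 ≤ a by omega)
      obtain ⟨c, hc⟩ : ∃ c, 2 ^ b = c + 1 := ⟨2 ^ b - 1, by have := Nat.one_le_two_pow (n := b); omega⟩
      have : ee (b + 1) false * ee (b + 1) false = Nat.card (CC (b + 1)) * c + 1 := by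
        rw [hC, show ee (b + 1) false = 2 * c + 1 by
          show 2 ^ (b + 1) - 1 = _
          rw [pow_succ, hc]; omega, pow_succ, pow_succ, hc]
        ring
      rw [← pow_mul, this, pow_succ, pow_mul, pow_card_eq_one', one_pow, one_mul]
    have hF : Nat.card {x : CC a // x ^ ee a false = x} = 2 := by
      obtain ⟨b, rfl⟩ := Nat.exists_eq_add_of_le' ha
      obtain ⟨c, hc⟩ : ∃ c, 2 ^ b = c + 1 := ⟨2 ^ b - 1, by have := Nat.one_le_two_pow (n := b); omega⟩
      have e1 : ee (b + 2) false = 2 * (2 * c + 1) + 1 := by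
        show 2 ^ (b + 2) - 1 = _
        rw [pow_add, hc]; omega
      rw [Nat.card_congr (Equiv.subtypeEquivRight (q := fun x => x ^ (2 * (2 * c + 1)) = 1)
        fun x => by rw [e1, pow_succ, mul_eq_right]), card_ker, pow_succ', Nat.gcd_mul_left,
        (Nat.Coprime.pow_left _ (Nat.coprime_two_left.2 ⟨c, rfl⟩)).gcd_eq_one]
    have k : ∀ {t u : {t : Fin n → CC a // ∀ i, t (ww n false i) ^ ee a false = t i}} (i : Fin n),
        t.1 (ww n false i) = u.1 (ww n false i) → t.1 i = u.1 i := fun {t u} i e => by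
      rw [← t.2, ← u.2, e]
    interval_cases n
    · rw [Nat.card_eq_of_bijective (β := CC a) (fun t => t.1 0) ⟨fun t u e => ?_, fun x => ?_⟩, hC]
      · simp
      · refine Subtype.ext (funext fun i => ?_)
        fin_cases i
        exacts [e, k 1 e]
      · exact ⟨⟨![x, x ^ ee a false], fun i => by fin_cases i; exacts [e2 x, rfl]⟩, rfl⟩
    · rw [Nat.card_eq_of_bijective (β := CC a × {x : CC a // x ^ ee a false = x})
        (fun t => (t.1 0, ⟨t.1 2, t.2 2⟩)) ⟨fun t u e => ?_, fun x => ?_⟩, Nat.card_prod, hC, hF]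
      · simp [pow_succ]
      · obtain ⟨e0, e1⟩ := Prod.ext_iff.1 e
        refine Subtype.ext (funext fun i => ?_)
        fin_cases i
        exacts [e0, k 1 e0, congrArg Subtype.val e1]
      · exact ⟨⟨![x.1, x.1 ^ ee a false, x.2], fun i => by
          fin_cases i; exacts [e2 x.1, rfl, x.2.2]⟩, rfl⟩
    · rw [Nat.card_eq_of_bijective (β := CC a × CC a)
        (fun t => (t.1 0, t.1 2)) ⟨fun t u e => ?_, fun x => ?_⟩, Nat.card_prod, hC]
      · simp [two_mul, pow_add]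
      · obtain ⟨e0, e1⟩ := Prod.ext_iff.1 e
        refine Subtype.ext (funext fun i => ?_)
        fin_cases i
        exacts [e0, k 1 e0, e1, k 3 e1]
      · exact ⟨⟨![x.1, x.1 ^ ee a false, x.2, x.2 ^ ee a false], fun i => by
          fin_cases i; exacts [e2 x.1, rfl, e2 x.2, rfl]⟩, rfl⟩
    · rw [Nat.card_eq_of_bijective (β := CC a × CC a × {x : CC a // x ^ ee a false = x})
        (fun t => (t.1 0, t.1 2, ⟨t.1 4, t.2 4⟩)) ⟨fun t u e => ?_, fun x => ?_⟩, Nat.card_prod,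
        Nat.card_prod, hC, hF]
      · simp only [cond_false]
        ring
      · obtain ⟨e0, e1⟩ := Prod.ext_iff.1 e
        obtain ⟨e1, e3⟩ := Prod.ext_iff.1 e1
        refine Subtype.ext (funext fun i => ?_)
        fin_cases i
        exacts [e0, k 1 e0, e1, k 3 e1, congrArg Subtype.val e3]
      · exact ⟨⟨![x.1, x.1 ^ ee a false, x.2.1, x.2.1 ^ ee a false, x.2.2], fun i => by
          fin_cases i; exacts [e2 x.1, rfl, e2 x.2.1, rfl, x.2.2.2]⟩, rfl⟩
  · rw [Nat.card_congr ((Equiv.subtypeEquivRight (q := fun t => ∀ i, t i ^ 2 ^ a = 1) fun t =>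
      forall_congr' fun i => by
        show t i ^ (2 ^ a + 1) = t i ↔ _
        rw [pow_succ, mul_eq_right]).trans
      (Equiv.subtypePiEquivPi (p := fun _ (x : CC a) => x ^ 2 ^ a = 1))), Nat.card_pi,
      Finset.prod_const, card_ker, Nat.gcd_eq_right (pow_dvd_pow 2 a.le_succ), ← pow_mul]
    simp [mul_comm]

end ORD

theorem V2.unique {m k l : ℕ} (h : V2 m k) (h' : V2 m l) : k = l := (ORD.val h).symm.trans (ORD.val h')

theorem exists_par {z : ℤ} (h : Odd z) (h1 : z ≠ 1) (h2 : z ≠ -1) : ∃ a s, Par z a s := by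
  have key : ∀ w : ℤ, w ≠ 0 → ∃ (b : ℕ) (u : ℤ), Odd u ∧ 4 * w = 2 ^ (b + 2) * u := fun w hw => by
    obtain ⟨b, u, hu, e⟩ := Nat.exists_eq_two_pow_mul_odd (Int.natAbs_ne_zero.2 hw)
    rcases Int.natAbs_eq w with e' | e'
    · exact ⟨b, u, hu.natCast, by rw [e', e]; push_cast; ring⟩
    · exact ⟨b, -u, hu.natCast.neg, by rw [e', e]; push_cast; ring⟩
  obtain ⟨k, rfl⟩ := h
  rcases Int.even_or_odd' k with ⟨w, rfl | rfl⟩
  · obtain ⟨b, u, hu, e⟩ := key w (by omega)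
    exact ⟨b + 2, true, ORD.par_iff.2 ⟨by omega, u, hu, by rw [← e]; simp; ring⟩⟩
  · obtain ⟨b, u, hu, e⟩ := key (w + 1) (by omega)
    exact ⟨b + 2, false, ORD.par_iff.2 ⟨by omega, u, hu, by rw [← e]; simp; ring⟩⟩

theorem Par.val {q a : ℕ} {s : Bool} (h : Par q a s) (h1 : 1 < q) :
    padicValNat 2 (q - 1) = (bif s then a else 1) ∧ padicValNat 2 (q + 1) = (bif s then 1 else a) ∧
      padicValNat 2 (q ^ 2 - 1) = a + 1 := by
  obtain ⟨p1, p2, -⟩ := ORD.pows h
  rw [ORD.natAbs_sub (by omega)] at p1 p2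
  rw [pow_one] at p1
  exact ⟨ORD.val p1, ORD.val (ORD.sub_add h).2, ORD.val p2⟩

theorem Par.neg {z : ℤ} {a : ℕ} {s : Bool} (h : Par z a s) : Par (-z) a (!s) := by
  obtain ⟨ha, u, hu, e⟩ := ORD.par_iff.1 h
  refine ORD.par_iff.2 ⟨ha, -u, hu.neg, ?_⟩
  rw [e]
  cases s <;> simp <;> ring

theorem Par.odd {z : ℤ} {a : ℕ} {s : Bool} (h : Par z a s) : Odd z := by
  obtain ⟨w, hw⟩ := ORD.par_four h
  cases s
  · exact ⟨2 * w - 1, by rw [hw]; simp; ring⟩
  · exact ⟨2 * w, by rw [hw]; simp; ring⟩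

theorem Par.mod4 {q a : ℕ} {s : Bool} (h : Par q a s) : q % 4 = bif s then 1 else 3 := by
  obtain ⟨w, hw⟩ := ORD.par_four h
  cases s <;> simp only [cond_true, cond_false] at hw ⊢ <;> omega

theorem exists_field {a : ℕ} (ha : 2 ≤ a) (s : Bool) :
    ∃ (F : Type) (_ : Field F) (_ : Fintype F), Par (Nat.card F) a s := by
  obtain ⟨q, hq, h⟩ : ∃ q : ℕ, q.Prime ∧ Par q a s := by
    obtain ⟨b, rfl⟩ := Nat.exists_eq_add_of_le' ha
    cases s
    · obtain ⟨q, m, hq, hm, e⟩ := H93.exists_prime_add b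
      refine ⟨q, hq, ORD.par_iff.2 ⟨ha, m, hm.natCast, ?_⟩⟩
      have : (q : ℤ) + 1 = 4 * 2 ^ b * m := by exact_mod_cast e
      simp only [cond_false]
      linear_combination this
    · obtain ⟨q, m, hq, hm, e⟩ := H93.exists_prime_sub (b + 1)
      refine ⟨q, hq, ORD.par_iff.2 ⟨ha, m, hm.natCast, ?_⟩⟩
      have h1 : q = 2 * 2 ^ (b + 1) * m + 1 := by have := hq.pos; omega
      have : (q : ℤ) = 2 * 2 ^ (b + 1) * m + 1 := by exact_mod_cast h1
      simp only [cond_true]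
      linear_combination this
  haveI := Fact.mk hq
  exact ⟨ZMod q, inferInstance, inferInstance, by rwa [Nat.card_zmod]⟩

variable {n a : ℕ} {s : Bool} (h2 : 2 ≤ n) (h5 : n ≤ 5)
include h2 h5

theorem card_WW (ha : 2 ≤ a) : Nat.card (WW n a s) = 2 ^ vG n a s := by
  have e : WW n a s ≃ {t : Fin n → CC a // ∀ i, t (ww n s i) ^ ee a s = t i} ×
      {p : Perm (Fin n) // p * w0 n = w0 n * p} :=
    { toFun := fun x => (⟨x.1.left, x.2.2⟩, ⟨x.1.right, x.2.1⟩)
      invFun := fun x => ⟨⟨x.1, x.2⟩, x.2.2, x.1.2⟩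
      left_inv := fun _ => rfl
      right_inv := fun _ => rfl }
  have h : Nat.card {p : Perm (Fin n) // p * w0 n = w0 n * p} = 2 ^ (if n ≤ 3 then 1 else 3) := by
    rw [Nat.card_eq_fintype_card]
    interval_cases n <;> decide +kernel
  rw [Nat.card_congr e, Nat.card_prod, ORD.card_left h2 h5 ha, h, vG, pow_add]

theorem v2_GL {F : Type*} [Field F] [Finite F] (h : Par (Nat.card F) a s) :
    V2 (Nat.card (GL (Fin n) F)) (vG n a s) := by
  have hq : 0 < Nat.card F := Nat.card_pos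
  have ho : Odd (Nat.card F) := by exact_mod_cast h.odd
  have hp := ORD.prod h2 h5 h
  simp only [ORD.natAbs_sub hq] at hp
  rw [H10.card_GL_fin, Fin.prod_univ_eq_prod_range (fun i => Nat.card F ^ n - Nat.card F ^ i),
    Finset.prod_congr rfl (g := fun i => Nat.card F ^ i * (Nat.card F ^ (n - 1 - i + 1) - 1))
      fun i hi => by
        have := Finset.mem_range.1 hi
        rw [Nat.mul_sub, ← pow_add, mul_one]
        congr 2; omega,
    Finset.prod_mul_distrib, Finset.prod_range_reflect (fun i => Nat.card F ^ (i + 1) - 1),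
    Finset.prod_pow_eq_pow_sum]
  simpa using ORD.mul (ORD.of_odd ho.pow) hp

theorem v2_PSL {F : Type*} [Field F] [Finite F] (h : Par (Nat.card F) a s) :
    V2 (Nat.card PSL(n, F)) (vP n a s) := by
  have hG := v2_GL h2 h5 h
  rw [H10.card_GL_fin, ← H10.card_PSL_fin n (by omega)] at hG
  have p1 := (ORD.pows h).1
  rw [ORD.natAbs_sub Nat.card_pos, pow_one] at p1
  have m4 := h.mod4
  have ha := h.two
  have hg : V2 (Nat.gcd n (Nat.card F - 1)) (if n = 2 then 1 else if n = 4 then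
      (bif s then 2 else 1) else 0) := by
    generalize Nat.card F = q at m4
    interval_cases n
    · rw [Nat.gcd_eq_left (by cases s <;> simp only [cond_true, cond_false] at m4 <;> omega)]
      exact ⟨1, odd_one, rfl⟩
    · exact ORD.of_odd (Odd.of_dvd_nat (by decide) (Nat.gcd_dvd_left 3 _))
    · cases s <;> simp only [cond_true, cond_false] at m4
      · rw [Nat.gcd_rec, show (q - 1) % 4 = 2 by omega]
        exact ⟨1, odd_one, by decide⟩
      · rw [Nat.gcd_eq_left (by omega)]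
        exact ⟨1, odd_one, rfl⟩
    · exact ORD.of_odd (Odd.of_dvd_nat (by decide) (Nat.gcd_dvd_left 5 _))
  refine ORD.cancel p1 (ORD.cancel hg ?_)
  convert hG using 1
  interval_cases n <;> cases s <;> simp [vG, vP] <;> omega

theorem v2_GU {K : Type*} [Field K] [Fintype K] {r : ℕ} (hK : Fintype.card K = r ^ 2)
    (h : Par (-r) a s) : V2 (Nat.card (GU n K r)) (vG n a s) := by
  haveI : H11.U.IsSq K r := ⟨hK⟩
  have hr := H11.U.two_le_q K r
  have ho : Odd r := by exact_mod_cast (odd_neg.1 h.odd)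
  have hp := ORD.prod h2 h5 h
  rw [H11.U.card_GU, Finset.prod_congr rfl (g := fun i => ((-r : ℤ) ^ (i + 1) - 1).natAbs)
    fun i _ => ?_]
  · simpa using ORD.mul (ORD.of_odd ho.pow) hp
  split_ifs with hi
  · rw [hi.add_one.neg_pow, ← Int.natAbs_neg, neg_sub, sub_neg_eq_add, add_comm]
    rfl
  · rw [(Nat.not_even_iff_odd.1 hi).add_one.neg_pow, ORD.natAbs_sub (by omega)]

end H73.FL
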