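import Cfsg.Agent.Lib.FLU.MON
import Cfsg.Agent.Lib.FLU.ORD

/-! # The monomial models: common part -/

set_option autoImplicit false

namespace H73.FL.MOD

open Subgroup Cfsg H69 Matrix
open Equiv (Perm)
open scoped MatrixGroups

variable {n a : ℕ} {s : Bool} {K : Type*} [Field K]

theorem exists_P (n : ℕ) (s : Bool) (K : Type*) [Field K] : ∃ P : Matrix (Fin n) (Fin n) K,
    P * P = 1 ∧ Pᵀ = P ∧ (∀ φ : K →+* K, P.map φ = P) ∧
      ∀ (X : Matrix (Fin n) (Fin n) K) i j, (P * X * P) i j = X (ww n s i) (ww n s j) := by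
  have w : (ww n s).symm = ww n s := Equiv.ext fun i => (Equiv.symm_apply_eq _).2 (ww_ww n s i).symm
  have e : ∀ X : Matrix (Fin n) (Fin n) K, (ww n s).toPEquiv.toMatrix * X * (ww n s).toPEquiv.toMatrix =
      X.submatrix (ww n s) (ww n s) := fun X => by
    rw [PEquiv.toMatrix_toPEquiv_mul, PEquiv.mul_toMatrix_toPEquiv, w]
    rfl
  refine ⟨(ww n s).toPEquiv.toMatrix, ?_, ?_, fun φ => ?_, fun X i j => by rw [e]; rfl⟩
  · simpa using e 1
  · rw [← PEquiv.toMatrix_symm, ← Equiv.toPEquiv_symm, w]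
  · ext i j
    simp [PEquiv.toMatrix_apply, apply_ite φ]

theorem unit_sm {θ : K} (h : θ ≠ 0) : IsUnit (θ • (1 : Matrix (Fin n) (Fin n) K)) :=
  Algebra.algebraMap_eq_smul_one (A := Matrix (Fin n) (Fin n) K) θ ▸ (isUnit_iff_ne_zero.2 h).map _

theorem unit_two (h : (2 : K) ≠ 0) : IsUnit (2 : Matrix (Fin n) (Fin n) K) :=
  map_ofNat (algebraMap K (Matrix (Fin n) (Fin n) K)) 2 ▸ (isUnit_iff_ne_zero.2 h).map _

theorem det_P {P : Matrix (Fin n) (Fin n) K} (h : P * P = 1) (X : Matrix (Fin n) (Fin n) K) :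
    (P * X * P).det = X.det := by
  rw [det_mul, det_mul, mul_right_comm, ← det_mul, h, det_one, one_mul]

theorem exists_chi [Finite K] (h : 2 ^ (a + 1) ∣ Nat.card K - 1) :
    ∃ χ : CC a →* Kˣ, Function.Injective χ := by
  obtain ⟨g, hg⟩ := IsCyclic.exists_ofOrder_eq_natCard (α := Kˣ)
  rw [← Nat.card_units, ← hg] at h
  have o := orderOf_pow_orderOf_div (orderOf_pos g).ne' h
  have e := mulEquivOfCyclicCardEq (G := CC a) (G' := zpowers (g ^ (orderOf g / 2 ^ (a + 1))))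
    (by rw [Nat.card_zpowers, o]; simp)
  exact ⟨(Subgroup.subtype _).comp e.toMonoidHom, (subtype_injective _).comp e.injective⟩

theorem cc_pow {z : ℤ} (h : Par z a s) (c : CC a) : c ^ z = c ^ ee a s := by
  rw [← zpow_natCast, zpow_eq_zpow_iff_modEq]
  refine h.md.of_dvd ?_
  have := orderOf_dvd_natCard c
  simp only [Nat.card_eq_fintype_card, Fintype.card_multiplicative, ZMod.card] at this
  exact_mod_cast this

theorem dvd_sq {z : ℤ} (h : Par z a s) : (2 : ℤ) ^ (a + 1) ∣ z ^ 2 - 1 := by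
  obtain ⟨b, rfl⟩ : ∃ b, a = b + 1 := ⟨a - 1, by have := h.two; omega⟩
  obtain ⟨c, hc⟩ := h.md.symm.dvd
  obtain rfl := eq_add_of_sub_eq hc
  have := Nat.one_le_two_pow (n := b + 1)
  cases s
  · exact ⟨c * c * 2 ^ (b + 2) + 2 * c * (2 ^ (b + 1) - 1) + 2 ^ b - 1, by
      simp only [ee, cond_false]; push_cast [this]; ring⟩
  · exact ⟨c * c * 2 ^ (b + 2) + 2 * c * (2 ^ (b + 1) + 1) + 2 ^ b + 1, by
      simp only [ee, cond_true]; push_cast; ring⟩

theorem chi_of [Fintype K] {q : ℕ} (hK : Fintype.card K = q ^ 2) {z : ℤ} (h : Par z a s)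
    (e : z ^ 2 = q ^ 2) : (2 : K) ≠ 0 ∧ ∃ χ : CC a →* Kˣ, Function.Injective χ := by
  have d := dvd_sq h
  have p : 1 ≤ q ^ 2 := hK ▸ Fintype.card_pos
  have d' : 2 ^ (a + 1) ∣ Nat.card K - 1 := by
    rw [Nat.card_eq_fintype_card, hK, ← Int.natCast_dvd_natCast]
    push_cast [p]
    rwa [← e]
  refine ⟨Ring.two_ne_zero fun t => ?_, exists_chi d'⟩
  have := FiniteField.even_card_of_char_two t
  have := (dvd_pow_self 2 (Nat.succ_ne_zero a)).trans d'
  rw [Nat.card_eq_fintype_card] at this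
  omega

theorem md_of [Finite K] (h2 : 2 ≤ n) (h5 : n ≤ 5) (ha : 2 ≤ a) {χ : CC a →* Kˣ}
    (inj : Function.Injective χ) (two : (2 : K) ≠ 0) {G S : Type*} [Group G] [Group S]
    (E : G →* GL (Fin n) K) (hE : Function.Injective E) (f : S →* G) (hf : Function.Injective f)
    (hr : ∀ g, g ∈ f.range ↔ E g ∈ SK (Fin n) K)
    (hz : ∀ A, A ∈ center S ↔ ∃ c : K, (E (f A)).1 = c • (1 : Matrix _ _ K))
    (hc : V2 (Nat.card G) (vG n a s)) (h : GL (Fin n) K) (Q : GL (Fin n) K → Prop)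
    (hQ : ∀ g, h * g * h⁻¹ ∈ E.range ↔ Q g) (hW : ∀ x ∈ WW n a s, Q (rho χ x))
    (ds : ∀ g, ∃ g', Q g' ∧ ∀ x y, Q x → Q y → y * g = g * x → y * g' = g' * x)
    (hd : ∀ g c, Q g → ∀ d : Fin n → Kˣ, (∀ i, d i ∈ zpowers (GeneralLinearGroup.det g)) →
      (∀ i, d (ww n s i) = d i) → c.1 = diagonal (fun i => (d i : K)) → Q c) :
    ∃ (Γ : Subgroup (GL (Fin n) K)) (π : ↥(Γ ⊓ SK (Fin n) K) →* S ⧸ center S),
      Md χ (WW n a s) Γ π := by
  let E' := (MulAut.conj h⁻¹).toMonoidHom.comp E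
  have hE' : Function.Injective E' := (MulAut.conj h⁻¹).injective.comp hE
  have e' : ∀ g, E' g = h⁻¹ * E g * h := fun g => by simp [E']
  have m : ∀ g, g ∈ E'.range ↔ Q g := fun g => (exists_congr fun x => by
    rw [e', mul_assoc, inv_mul_eq_iff_eq_mul, ← eq_mul_inv_iff_mul_eq]).trans (hQ g)
  have dt : ∀ g, E' g ∈ SK (Fin n) K ↔ E g ∈ SK (Fin n) K := fun g => by simp [e', MonoidHom.mem_ker]
  have r : (E'.comp f).range = E'.range ⊓ SK (Fin n) K := le_antisymm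
    (by rintro _ ⟨x, rfl⟩; exact ⟨⟨_, rfl⟩, (dt _).2 ((hr _).1 ⟨x, rfl⟩)⟩)
    (by rintro _ ⟨⟨x, rfl⟩, hx⟩; obtain ⟨y, rfl⟩ := (hr _).2 ((dt _).1 hx); exact ⟨y, rfl⟩)
  let ε := (MonoidHom.ofInjective (f := E'.comp f) (hE'.comp hf)).trans (MulEquiv.subgroupCongr r)
  have c1 : Nat.card ((WW n a s).map (rho χ)) = 2 ^ vG n a s := by
    rw [card_map_of_injective (rho_inj inj), card_WW h2 h5 ha]
  have le : (WW n a s).map (rho χ) ≤ E'.range := by
    rintro _ ⟨x, hx, rfl⟩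
    exact (m _).2 (hW x hx)
  refine ⟨E'.range, (QuotientGroup.mk' _).comp ε.symm.toMonoidHom, inj, two,
    isSylowIn_of_not_dvd_relIndex (IsPGroup.of_card c1) le fun d => ?_, fun g => ?_, fun g hg o => ?_,
    (QuotientGroup.mk'_surjective _).comp ε.symm.surjective, fun g => ?_⟩
  · obtain ⟨u, hu, e⟩ := hc
    have := card_mul_index (((WW n a s).map (rho χ)).subgroupOf E'.range)
    rw [Nat.card_congr (subgroupOfEquivOfLe le).toEquiv, c1,
      ← Nat.card_congr (MonoidHom.ofInjective hE').toEquiv, e, mul_right_inj' (by positivity)] at this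
    exact hu.not_two_dvd_nat (this ▸ d)
  · obtain ⟨g', q, e⟩ := ds g
    exact ⟨g', (m _).2 q, fun x hx y hy d => eq_mul_inv_of_mul_eq
      (e x y ((m _).1 hx) ((m _).1 hy) (by simp [d]))⟩
  · obtain ⟨d, d1, d2, d3⟩ := exists_dg h2 h5 (l := GeneralLinearGroup.det g)
      (o.of_dvd_nat (orderOf_map_dvd _ g))
    let c : GL (Fin n) K := GeneralLinearGroup.mkOfDetNeZero (diagonal fun i => (d i : K))
      (by simp [Finset.prod_ne_zero_iff])
    refine ⟨c, (m _).2 (hd g c ((m _).1 hg) d d1 (fun i => ?_) rfl), fun x hx => ?_, ?_⟩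
    · cases s
      exacts [d2 _ rfl i, rfl]
    · ext i j
      simp only [c, Units.val_mul, GeneralLinearGroup.val_mkOfDetNeZero, diagonal_mul, mul_diagonal,
        rho_apply]
      split_ifs with e
      · rw [e, d2 _ hx.1, mul_comm]
      · simp
    · rw [MonoidHom.mem_ker, map_mul, ← d3]
      congr 1
      ext
      simp [c]
  · obtain ⟨A, rfl⟩ := ε.surjective g
    have : ((ε A).1 : Matrix _ _ K) = (h⁻¹).1 * (E (f A)).1 * h.1 := congrArg Units.val (e' (f A))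
    simp only [MonoidHom.comp_apply, MulEquiv.coe_toMonoidHom, MulEquiv.symm_apply_apply,
      QuotientGroup.mk'_apply, QuotientGroup.eq_one_iff, hz, this]
    refine exists_congr fun c => ⟨fun e => by simp [e], fun e => ?_⟩
    have := congrArg (fun X => h.1 * X * (h⁻¹).1) e
    simpa [mul_assoc] using this

end H73.FL.MOD
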