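import Cfsg.Agent.Lib.FLU.DESC
import Cfsg.Agent.Lib.FLU.MOD0

/-! # The monomial model of the linear groups -/

set_option autoImplicit false

namespace H73.FL

open Subgroup Cfsg H69 Matrix H11.U
open Equiv (Perm)
open scoped MatrixGroups

universe v

namespace MODL
variable {ι F K : Type*} [Fintype ι] [DecidableEq ι] [Field F] [Field K]

theorem mem_range {i : F →+* K} {φ : K →+* K} (h : ∀ x, φ x = x ↔ ∃ k, i k = x) {g : GL ι K} :
    g ∈ (GeneralLinearGroup.map (n := ι) i).range ↔ g.1.map φ = g.1 := by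
  refine ⟨?_, fun e => ?_⟩
  · rintro ⟨A, rfl⟩
    exact Matrix.ext fun j k => (h _).2 ⟨_, rfl⟩
  · choose A hA using fun j k => (h _).1 (congrFun (congrFun e j) k)
    have d : (Matrix.of A).map i = g.1 := Matrix.ext hA
    refine ⟨GeneralLinearGroup.mkOfDetNeZero (Matrix.of A) fun z => g.det_ne_zero ?_, Units.ext d⟩
    rw [← d, ← RingHom.mapMatrix_apply, ← RingHom.map_det, z, map_zero]

theorem exists_h {P : Matrix ι ι K} (φ : K →+* K) (hP : P * P = 1) (hφ : P.map φ = P) {θ : K}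
    (h0 : θ ≠ 0) (hθ : φ θ = -θ) (two : (2 : K) ≠ 0) : ∃ h : GL ι K, h.1.map φ = h.1 * P := by
  have e : ((1 + θ) • (1 : Matrix ι ι K) + (1 - θ) • P) *
      ((2 * 2 * θ)⁻¹ • ((1 + θ) • (1 : Matrix ι ι K) - (1 - θ) • P)) = 1 := by
    simp only [Matrix.mul_smul, add_mul, mul_sub, Matrix.smul_mul, one_mul, mul_one, hP, smul_smul,
      smul_sub]
    match_scalars <;> field_simp <;> ring
  refine ⟨⟨_, _, e, mul_eq_one_comm.1 e⟩, ?_⟩
  have : ∀ (c : K) (X : Matrix ι ι K), (c • X).map φ = φ c • X.map φ := fun c X => by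
    ext; simp
  simp only [Matrix.map_add _ φ.map_add, this, hφ, Matrix.map_one _ φ.map_zero φ.map_one, map_add,
    map_sub, map_one, hθ, add_mul, Matrix.smul_mul, one_mul, hP]
  module

end MODL

open MOD MODL in
theorem exists_mdL {n a : ℕ} {s : Bool} (h2 : 2 ≤ n) (h5 : n ≤ 5) {F : Type v} [Field F] [Finite F]
    (h : Par (Nat.card F) a s) : ∃ (K : Type v) (_ : Field K) (_ : Finite K) (χ : CC a →* Kˣ)
      (Γ : Subgroup (GL (Fin n) K)) (π : ↥(Γ ⊓ SK (Fin n) K) →* PSL(n, F)),
      Md χ (WW n a s) Γ π := by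
  obtain ⟨p, hp⟩ := CharP.exists F
  have := Fact.mk (CharP.char_is_prime F p)
  obtain ⟨K, _, _, hK⟩ : ∃ (K : Type v) (_ : Field K) (_ : Fintype K),
      Fintype.card K = Nat.card F ^ 2 := ⟨ULift.{v} (FiniteField.Extension F p 2), inferInstance,
    Fintype.ofFinite _, Fintype.card_eq_nat_card.trans (by
      rw [Nat.card_ulift, FiniteField.natCard_extension])⟩
  have : IsSq K (Nat.card F) := ⟨hK⟩
  have := Fintype.ofFinite F
  obtain ⟨i, hi⟩ := exists_embedding K (Nat.card F) F Nat.card_eq_fintype_card.symm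
  obtain ⟨two, χ, inj⟩ := chi_of hK h rfl
  obtain ⟨θ, h0, hθ⟩ := exists_trace_zero K (Nat.card F)
  obtain ⟨P, p1, -, p3, p4⟩ := exists_P n s K
  set φ : K →+* K := cj (Nat.card F) with hφ
  obtain ⟨t, ht⟩ := exists_h φ p1 (p3 φ) h0 hθ two
  have pp : ∀ X, P * (P * X) = X := fun X => by rw [← mul_assoc, p1, one_mul]
  let σ : Matrix (Fin n) (Fin n) K →+* Matrix (Fin n) (Fin n) K :=
    { toFun X := P * X.map φ * P
      map_one' := by simp [p1]
      map_mul' X Y := by simp [Matrix.map_mul, mul_assoc, pp]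
      map_zero' := by simp
      map_add' X Y := by simp [Matrix.map_add _ φ.map_add, mul_add, add_mul] }
  have hσ : ∀ X j k, σ X j k = φ (X (ww n s j) (ww n s k)) := fun X => p4 _
  refine ⟨K, inferInstance, inferInstance, χ, md_of h2 h5 h.two inj two (GeneralLinearGroup.map i)
    (fun x y e => Units.ext (Matrix.map_injective i.injective (congrArg Units.val e)))
    SpecialLinearGroup.toGL SpecialLinearGroup.toGL_injective (fun g => ?_) (fun A => ?_)
    (v2_GL h2 h5 h) t (fun g => σ g = g) (fun g => ?_) (fun x hx => ?_) (fun g => ?_)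
    fun g c q d d1 d2 e => ?_⟩
  · rw [MonoidHom.mem_ker, GeneralLinearGroup.map_det, Units.ext_iff]
    refine .trans ⟨?_, fun e => ⟨⟨g, e⟩, Units.ext rfl⟩⟩ (map_eq_one_iff i i.injective).symm
    rintro ⟨A, rfl⟩
    exact A.2
  · refine ⟨fun e => ?_, fun ⟨c, e⟩ => mem_center_iff.2 fun B => Subtype.ext
      (Matrix.map_injective i.injective ?_)⟩
    · obtain ⟨r, -, e⟩ := Matrix.SpecialLinearGroup.mem_center_iff.1 e
      refine ⟨i r, ?_⟩
      change A.1.map i = _
      rw [← e]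
      ext j k
      simp [Matrix.one_apply, diagonal_apply, apply_ite i]
    · change A.1.map i = _ at e
      simp [Matrix.map_mul, e]
  · have u : (t⁻¹).1.map φ = P * (t⁻¹).1 := by
      have : (t⁻¹).1.map φ * (t.1 * P) = 1 := by rw [← ht, ← Matrix.map_mul]; simp
      calc _ = (t⁻¹).1.map φ * (t.1 * P) * (P * (t⁻¹).1) := by simp [mul_assoc, pp]
        _ = _ := by rw [this, one_mul]
    rw [mem_range hi, Units.val_mul, Units.val_mul, Matrix.map_mul, Matrix.map_mul, ht, u,
      ← mul_assoc, Units.mul_left_inj, mul_assoc, mul_assoc, Units.mul_right_inj, ← mul_assoc]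
    rfl
  · ext j k
    rw [hσ, rho_apply, rho_apply, ww_comm s hx.1, apply_ite φ, map_zero, hφ, cj_apply,
      ← Units.val_pow_eq_pow_val, ← map_pow, ← zpow_natCast, cc_pow h, hx.2]
    simp
  · obtain ⟨g', e, d⟩ := desc_hom σ (θ := θ • 1) (fun X => Matrix.ext fun j k => by
      rw [hσ, hσ, ww_ww, ww_ww, H11.U.cj_cj]) (unit_sm h0) (by simp)
      (Matrix.ext fun j k => by by_cases c : j = k <;> simp [hσ, c, hθ]) (unit_two two) g
    exact ⟨g', e, fun x y hx hy c => Units.ext (d x y hx hy (congrArg Units.val c))⟩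
  · have l : φ g.1.det = g.1.det := (φ.map_det _).trans ((det_P p1 _).symm.trans (congrArg det q))
    ext j k
    obtain ⟨m, hm⟩ := d1 j
    rw [hσ, e]
    simp [diagonal_apply, apply_ite φ, d2, ← hm, l]

end H73.FL
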