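import Cfsg.Agent.Lib.FLU.DESC
import Cfsg.Agent.Lib.FLU.MOD0

/-! # The monomial model of the unitary groups -/

set_option autoImplicit false

namespace H73.FL

open Subgroup Cfsg H69 Matrix H11.U
open Equiv (Perm)
open scoped MatrixGroups

namespace MODU
variable {ι K : Type*} [Fintype ι] [DecidableEq ι] [Field K]

theorem exists_h {P : Matrix ι ι K} (φ : K →+* K) (hP : P * P = 1) (hφ : P.map φ = P) (hT : Pᵀ = P)
    {β : K} (hβ : β * φ β = -1) (two : (2 : K) ≠ 0) : ∃ h : GL ι K, (h.1.map φ)ᵀ * h.1 = P := by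
  have : ∀ (c : K) (X : Matrix ι ι K), (c • X).map φ = φ c • X.map φ := fun c X => by
    ext; simp
  have e : ((((1 + β) / 2) • (1 : Matrix ι ι K) + ((1 - β) / 2) • P).map φ)ᵀ *
      (((1 + β) / 2) • (1 : Matrix ι ι K) + ((1 - β) / 2) • P) = P := by
    simp only [Matrix.map_add _ φ.map_add, this, hφ, Matrix.map_one _ φ.map_zero φ.map_one, map_add,
      map_sub, map_one, map_div₀, map_ofNat, transpose_add, transpose_smul, transpose_one, hT, add_mul,
      mul_add, Matrix.smul_mul, Matrix.mul_smul, one_mul, mul_one, hP, smul_smul]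
    match_scalars <;> field_simp
    · linear_combination 2 * hβ
    · linear_combination -2 * hβ
  have e' := congrArg (P * ·) e
  simp only [hP, ← mul_assoc] at e'
  exact ⟨⟨_, _, mul_eq_one_comm.1 e', e'⟩, e⟩

end MODU

open MOD MODU in
theorem exists_mdU {n a : ℕ} {s : Bool} (h2 : 2 ≤ n) (h5 : n ≤ 5) {K : Type*} [Field K] [Fintype K]
    {r : ℕ} (hK : Fintype.card K = r ^ 2) (h : Par (-r) a s) : ∃ (χ : CC a →* Kˣ)
      (Γ : Subgroup (GL (Fin n) K)) (π : ↥(Γ ⊓ SK (Fin n) K) →* PSU n K r),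
      Md χ (WW n a s) Γ π := by
  have : IsSq K r := ⟨hK⟩
  obtain ⟨two, χ, inj⟩ := chi_of hK h (neg_sq _)
  obtain ⟨θ, h0, hθ⟩ := exists_trace_zero K r
  obtain ⟨β, hβ⟩ := exists_norm_eq (F := K) (q := r) (c := -1) (by simp)
  obtain ⟨P, p1, p2, p3, p4⟩ := exists_P n s K
  have cc := H11.U.cj_cj (F := K) (q := r)
  set φ : K →+* K := cj r with hφ
  obtain ⟨t, ht⟩ := exists_h φ p1 (p3 φ) p2 hβ two
  have pp : ∀ X, P * (P * X) = X := fun X => by rw [← mul_assoc, p1, one_mul]
  let σ : Matrix (Fin n) (Fin n) K →+ Matrix (Fin n) (Fin n) K :=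
    { toFun X := P * (X.map φ)ᵀ * P
      map_zero' := by simp
      map_add' X Y := by simp [Matrix.map_add _ φ.map_add, mul_add, add_mul] }
  have hσ : ∀ X j k, σ X j k = φ (X (ww n s k) (ww n s j)) := fun X => p4 _
  have eσ : ∀ X, σ X = P * (X.map φ)ᵀ * P := fun X => rfl
  have iso : ∀ X : Matrix (Fin n) (Fin n) K, IsIso r X ↔ (X.map φ)ᵀ * X = 1 := fun X => by
    have : ∀ Y : Matrix (Fin n) (Fin n) K, (Y.map φ).map φ = Y := fun Y => Matrix.ext fun j k => cc _
    rw [isIso_iff]
    refine ⟨fun e => ?_, fun e => ?_⟩ <;> have d := congrArg (·.map φ) e <;>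
      simp only [Matrix.map_mul, transpose_map, ← hφ, this, Matrix.map_one _ φ.map_zero φ.map_one] at d <;>
      exact d
  refine ⟨χ, md_of h2 h5 h.two inj two (GU n K r).subtype (subtype_injective _) (suToGU n K r)
    suToGU_injective (fun g => mem_range_suToGU.trans ⟨fun e => Units.ext e, congrArg Units.val⟩)
    (fun A => mem_center_SU_iff h2) (v2_GU h2 h5 hK h) t (fun g => σ g * g = 1) (fun g => ?_)
    (fun x hx => ?_) (fun g => ?_) fun g c q d d1 d2 e => ?_⟩
  · rw [range_subtype, mem_GU, iso, eσ, Units.val_mul, Units.val_mul, Matrix.map_mul, Matrix.map_mul,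
      transpose_mul, transpose_mul]
    have u : ((t⁻¹).1.map φ)ᵀ * (t.1.map φ)ᵀ = 1 := by
      rw [← transpose_mul, ← Matrix.map_mul]; simp
    have u' := mul_eq_one_comm.1 u
    refine ⟨fun e => ?_, fun e => ?_⟩
    · have := congrArg (fun X => P * ((t.1.map φ)ᵀ * X * t.1)) e
      simp only [mul_assoc, Units.inv_mul, mul_one, ht, p1] at this
      simp only [← mul_assoc, u', one_mul] at this
      rw [← this, ← ht]
      simp only [mul_assoc]
    · have := congrArg (fun X => ((t⁻¹).1.map φ)ᵀ * (P * X * (t⁻¹).1)) e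
      simp only [mul_assoc, pp, one_mul] at this
      rw [← ht] at this
      simp only [mul_assoc, Units.mul_inv, mul_one, u] at this ⊢
      exact this
  · have : σ (rho χ x) = (rho χ x⁻¹).1 := by
      ext j k
      rw [hσ, rho_apply, rho_apply, ww_comm s hx.1, apply_ite φ, map_zero, hφ, cj_apply,
        ← Units.val_pow_eq_pow_val, ← map_pow, ← zpow_natCast, ← neg_neg (r : ℤ), _root_.zpow_neg,
        cc_pow h, hx.2, Mo.inv_left]
      simp only [EmbeddingLike.apply_eq_iff_eq, SemidirectProduct.inv_right, Perm.eq_inv_iff_eq,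
        eq_comm (a := k)]
      split_ifs with c
      · rw [c]
      · rfl
    rw [this, ← Units.val_mul, ← map_mul, inv_mul_cancel, map_one, Units.val_one]
  · obtain ⟨g', e, d⟩ := desc_anti σ (θ := θ • 1)
      (fun X Y => by simp [eσ, Matrix.map_mul, mul_assoc, pp]) (by simp [eσ, p1])
      (fun X => Matrix.ext fun j k => by rw [hσ, hσ, ww_ww, ww_ww, cc]) (unit_sm h0) (by simp)
      (Matrix.ext fun j k => by by_cases c : j = k <;> simp [hσ, c, hθ, Ne.symm]) (unit_two two) g
    exact ⟨g', e, d⟩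
  · have l : φ g.1.det = g.1.det⁻¹ := eq_inv_of_mul_eq_one_left (by
      have := congrArg det q
      rwa [det_mul, eσ, det_P p1, det_transpose, det_one, ← RingHom.mapMatrix_apply, ← φ.map_det] at this)
    ext j k
    obtain ⟨m, hm⟩ := d1 j
    rw [e, mul_diagonal, hσ]
    by_cases c : j = k
    · subst c
      simp [d2, ← hm, l, inv_mul_cancel₀ (zpow_ne_zero m g.det_ne_zero)]
    · simp [c, Ne.symm c]

end H73.FL
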