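import Cfsg.Agent.Lib.FLU.FE
import Cfsg.Agent.Lib.Functor.Alperin

/-! # Passing to normal subgroups of 2-power index -/

set_option autoImplicit false
set_option linter.unusedSectionVars false

namespace H73.FL

open Subgroup Cfsg H69 Matrix
open Equiv (Perm)
open scoped MatrixGroups

variable {W G G' : Type*} [Group W] [Group G] [Group G'] [Finite G] [Finite G']
  {L : Subgroup G} {L' : Subgroup G'} {i : W →* G} {j : W →* G'}

attribute [local instance] FE.fact2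

namespace SUB

theorem syl (h : IsSylowIn 2 i.range L) (N : Subgroup G) [N.Normal] (W0 : Subgroup W) (e : ∀ x, x ∈ W0 ↔ i x ∈ N) :
    IsSylowIn 2 (i.comp W0.subtype).range (L ⊓ N) := by
  have := h.inf_normal (N := L ⊓ N) inf_le_left
    (le_normalizer_inf le_normalizer (by rw [normalizer_eq_top]; exact le_top))
  rwa [show i.range ⊓ (L ⊓ N) = (i.comp W0.subtype).range from Subgroup.ext fun g =>
    ⟨fun ⟨⟨x, hx⟩, _, k⟩ => ⟨⟨x, (e x).2 (hx ▸ k)⟩, hx⟩,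
      fun ⟨x, hx⟩ => ⟨⟨x, hx⟩, h.le ⟨x, hx⟩, hx ▸ (e x).1 x.2⟩⟩] at this

/-- conjugation by `g` on `P` is induced by `M` -/
def Good (i : W →* G) (j : W →* G') (S : Subgroup G) (M : Subgroup G') (P : Subgroup G) (g : G) : Prop :=
  P ≤ S ∧ P ^ᶜ g ≤ S ∧ ∃ g' ∈ M, ∀ x y : W, i x ∈ P → i y = g * i x * g⁻¹ → j y = g' * j x * g'⁻¹

variable {S P : Subgroup G} {M : Subgroup G'} {g k : G}

theorem Good.mul (hS : S ≤ i.range) (h : Good i j S M P g) (h' : Good i j S M (P ^ᶜ g) k) : Good i j S M P (k * g) := by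
  obtain ⟨h1, h2, g', hg', d⟩ := h
  obtain ⟨-, h3, k', hk', d'⟩ := h'
  refine ⟨h1, cj_cj P g k ▸ h3, k' * g', mul_mem hk' hg', fun x y hx e => ?_⟩
  obtain ⟨z, hz⟩ := hS (h2 (cj_mem g hx))
  rw [d' z y (hz ▸ cj_mem g hx) (by rw [e, hz]; group), d x z hx hz]; group

theorem Good.inv (h : Good i j S M P g) : Good i j S M (P ^ᶜ g) g⁻¹ := by
  obtain ⟨h1, h2, g', hg', d⟩ := h
  refine ⟨h2, (cj_cj_inv P g).symm ▸ h1, g'⁻¹, inv_mem hg', fun x y hx e => ?_⟩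
  rw [d y x (by rw [e, inv_inv]; exact mem_cj.1 hx) (by rw [e]; group)]; group

theorem fw (h : Fz L L' i j) (N : Subgroup G) [N.Normal] (N' : Subgroup G')
    (W0 : Subgroup W) (e : ∀ x, x ∈ W0 ↔ i x ∈ N) (e' : ∀ x, x ∈ W0 ↔ j x ∈ N')
    (od' : ∀ g ∈ L', Odd (orderOf g) → ∃ c ∈ L', (∀ x, c * j x = j x * c) ∧ g * c ∈ N') :
    Fw (L ⊓ N) (L' ⊓ N') (i.comp W0.subtype) (j.comp W0.subtype) := by
  have hS := syl h.si N W0 e
  set S := (i.comp W0.subtype).range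
  have Si : S ≤ i.range := fun _ ⟨x, hx⟩ => ⟨x, hx⟩
  have key := H59.alperin_extr hS (Good i j S (L' ⊓ N'))
    (fun P P' g l ⟨h1, h2, g', hg', d⟩ => ⟨l.trans h1, (cj_mono g l).trans h2, g', hg', fun x y hx => d x y (l hx)⟩)
    (fun P g k => Good.mul Si) (fun P g => Good.inv) fun U hU _ g hg gU => by
      let B : Subgroup G :=
        { carrier := {g | g ∈ 𝐍(U) ∧ Good i j S (L' ⊓ N') U g}
          one_mem' := ⟨one_mem _, hU.le, (cj_one U).symm ▸ hU.le, 1, one_mem _, fun x y _ k => by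
            simpa using h.fw.eq (x := y) (y := x) (by simpa using k)⟩
          mul_mem' := fun ha hb => ⟨mul_mem ha.1 hb.1, hb.2.mul Si ((cj_eq_of_mem_normalizer hb.1).symm ▸ ha.2)⟩
          inv_mem' := fun ha => ⟨inv_mem ha.1, cj_eq_of_mem_normalizer ha.1 ▸ ha.2.inv⟩ }
      refine (hU.syl.eq_of_res_le (K := B) ?_ (res_le_iff.2 ?_) ⟨hg, gU⟩).2
      · rintro _ ⟨⟨t, rfl⟩, ht⟩
        refine ⟨ht, hU.le, (cj_eq_of_mem_normalizer ht).symm ▸ hU.le, j t, ⟨h.sj.le ⟨t, rfl⟩, (e' t).1 t.2⟩,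
          fun x y _ k => ?_⟩
        rw [← map_inv, ← map_mul, ← map_mul]
        exact h.fw.eq (by rw [map_mul, map_mul, map_inv]; exact k)
      · rintro g ⟨hg, gU⟩ co
        obtain ⟨g', hg', d⟩ := h.fw g hg.1
        have pw : ∀ (n : ℕ) (x y : W), i x ∈ U → i y = g ^ n * i x * (g ^ n)⁻¹ → j y = g' ^ n * j x * (g' ^ n)⁻¹ := by
          intro n
          induction n with
          | zero => exact fun x y _ k => by simpa using h.fw.eq (x := y) (y := x) (by simpa using k)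
          | succ n ih =>
            intro x y hx k
            have m := conj_mem_of_mem_normalizer gU hx
            obtain ⟨z, hz⟩ := Si (hU.le m)
            rw [ih z y (hz ▸ m) (by rw [k, hz, pow_succ]; group), d x z hz, pow_succ]; group
        obtain ⟨a, o, ho, ea⟩ := Nat.exists_eq_two_pow_mul_odd (orderOf_pos g').ne'
        have eu : g ^ (2 ^ a) ^ (orderOf g).totient = g := by
          nth_rewrite 3 [← pow_one g]
          exact pow_eq_pow_iff_modEq.2 (Nat.ModEq.pow_totient (co.symm.pow_left a))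
        obtain ⟨v, hv⟩ := dvd_pow_self (2 ^ a) (Nat.totient_pos.2 (orderOf_pos g)).ne'
        generalize (2 ^ a) ^ (orderOf g).totient = u at eu hv
        obtain ⟨c, hc, cc, cN⟩ := od' (g' ^ u) (pow_mem hg' u) (ho.of_dvd_nat (orderOf_dvd_of_pow_eq_one (by
          rw [← pow_mul, hv, mul_right_comm, ← ea, pow_mul, pow_orderOf_eq_one, one_pow])))
        refine ⟨gU, hU.le, (cj_eq_of_mem_normalizer gU).symm ▸ hU.le, g' ^ u * c, ⟨mul_mem (pow_mem hg' u) hc, cN⟩,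
          fun x y hx k => ?_⟩
        rw [pw u x y hx (by rwa [eu]), mul_assoc _ c, cc]; group
  intro g hg
  obtain ⟨-, -, g', hg', d⟩ := key (S ⊓ S ^ᶜ g⁻¹) g inf_le_left hg (cj_le_iff.2 inf_le_right)
  exact ⟨g', hg', fun x y k => d x y ⟨⟨x, rfl⟩, mem_cj.2 ⟨y, by rw [inv_inv]; exact k⟩⟩ k⟩

end SUB

theorem Fz.sub (h : Fz L L' i j) (N : Subgroup G) [N.Normal] (N' : Subgroup G') [N'.Normal]
    (W0 : Subgroup W) (e : ∀ x, x ∈ W0 ↔ i x ∈ N) (e' : ∀ x, x ∈ W0 ↔ j x ∈ N')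
    (od : ∀ g ∈ L, Odd (orderOf g) → ∃ c ∈ L, (∀ x, c * i x = i x * c) ∧ g * c ∈ N)
    (od' : ∀ g ∈ L', Odd (orderOf g) → ∃ c ∈ L', (∀ x, c * j x = j x * c) ∧ g * c ∈ N') :
    Fz (L ⊓ N) (L' ⊓ N') (i.comp W0.subtype) (j.comp W0.subtype) :=
  ⟨SUB.syl h.si N W0 e, SUB.syl h.sj N' W0 e', SUB.fw h N N' W0 e e' od', SUB.fw h.symm N' N W0 e' e od⟩

end H73.FL
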