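import Cfsg.Agent.Lib.FLU.FE
import Cfsg.Agent.Lib.FLU.SUB
import Cfsg.Agent.Lib.FLU.CONJ
import Cfsg.Agent.Lib.FLU.MODL
import Cfsg.Agent.Lib.FLU.MODU

/-! # The 2-fusion system depends only on the 2-adic type of the field -/

set_option autoImplicit false

namespace H73.FL

open Subgroup Cfsg H69 Matrix
open Equiv (Perm)
open scoped MatrixGroups

section
variable {ι C K K' H H' : Type*} [Fintype ι] [DecidableEq ι] [CommGroup C] [Field K] [Field K']
  [Group H] [Group H'] {χ : C →* Kˣ} {χ' : C →* K'ˣ} {W : Subgroup (Mo ι C)}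
  {Γ : Subgroup (GL ι K)} {Γ' : Subgroup (GL ι K')} {π : ↥(Γ ⊓ SK ι K) →* H}
  {π' : ↥(Γ' ⊓ SK ι K') →* H'}

theorem Md.rg (χ : C →* Kˣ) (W : Subgroup (Mo ι C)) :
    ((rho χ).comp W.subtype).range = W.map (rho χ) := by
  rw [MonoidHom.range_comp, range_subtype]

theorem Md.mem (m : Md χ W Γ π) (x : W) : rho χ x.1 ∈ Γ := m.syl.le ⟨x, x.2, rfl⟩

variable [Finite K] [Finite K']

theorem Md.fw (m : Md χ W Γ π) (m' : Md χ' W Γ' π') :
    Fw Γ Γ' ((rho χ).comp W.subtype) ((rho χ').comp W.subtype) := fun g _ => by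
  have hi : Function.Injective ((rho χ).comp W.subtype) := (rho_inj m.inj).comp W.subtype_injective
  have : Finite W := Finite.of_injective _ hi
  have hW : IsPGroup 2 W := (Md.rg χ W ▸ m.syl.isP :
    IsPGroup 2 ((rho χ).comp W.subtype).range).of_equiv (MonoidHom.ofInjective hi).symm
  let P := (((rho χ).comp W.subtype).comp (MonoidHom.snd W W)).eqLocus
    ((MulAut.conj g).toMonoidHom.comp (((rho χ).comp W.subtype).comp (MonoidHom.fst W W)))
  have hP : IsPGroup 2 P := IsPGroup.to_subgroup (fun x => by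
    obtain ⟨k, e⟩ := hW x.1
    obtain ⟨l, d⟩ := hW x.2
    exact ⟨k + l, Prod.ext (by simp [pow_add, pow_mul, e]) (by simp [pow_add, pow_mul', d])⟩) P
  let α : P →* Mo ι C := W.subtype.comp ((MonoidHom.fst W W).comp P.subtype)
  let β : P →* Mo ι C := W.subtype.comp ((MonoidHom.snd W W).comp P.subtype)
  obtain ⟨h1, h2⟩ := rank_of_conj (α := (rho χ).comp α) (β := (rho χ).comp β) (g := g) fun x => x.2
  rw [rank_mono m.inj m'.inj, rank_mono m.inj m'.inj] at h1 h2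
  obtain ⟨k, hk⟩ := IsPGroup.iff_card.1 hP
  obtain ⟨g1, e⟩ := conj_of_rank (by rw [hk]; exact_mod_cast pow_ne_zero k m'.two) h1 h2
  obtain ⟨g', hg', d⟩ := m'.ds g1
  exact ⟨g', hg', fun x y h => d _ (m'.mem x) _ (m'.mem y) (e ⟨(x, y), h⟩)⟩

omit [Finite K] in
theorem Md.cen (m : Md χ W Γ π) : π.ker ≤ center _ := fun g hg => mem_center_iff.2 fun x => by
  obtain ⟨c, e⟩ := (m.ker g).1 hg
  exact Subtype.ext (Units.ext (by simp [e]))

theorem Md.fe (m : Md χ W Γ π) (m' : Md χ' W Γ' π') : FE H H' := by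
  have z : Fz Γ Γ' ((rho χ).comp W.subtype) ((rho χ').comp W.subtype) :=
    ⟨Md.rg χ W ▸ m.syl, Md.rg χ' W ▸ m'.syl, m.fw m', m'.fw m⟩
  refine (z.sub (SK ι K) (SK ι K') ((SK ι K).comap ((rho χ).comp W.subtype)) (fun _ => Iff.rfl)
    (fun _ => ⟨rho_SK m.inj m'.inj m.two m'.two, rho_SK m'.inj m.inj m'.two m.two⟩)
    (fun g hg ho => ?_) fun g hg ho => ?_).quo π π' m.surj m'.surj m.cen m'.cen fun x => ?_
  · obtain ⟨c, h1, h2, h3⟩ := m.od g hg ho
    exact ⟨c, h1, fun x => h2 x x.2, h3⟩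
  · obtain ⟨c, h1, h2, h3⟩ := m'.od g hg ho
    exact ⟨c, h1, fun x => h2 x x.2, h3⟩
  · exact ((m.ker _).trans (rho_scalar m.inj)).trans ((m'.ker _).trans (rho_scalar m'.inj)).symm

end

variable {n a : ℕ} {s : Bool} (h2 : 2 ≤ n) (h5 : n ≤ 5) {F : Type*} [Field F] [Finite F]
  (h : Par (Nat.card F) a s)
include h2 h5 h

theorem fe_LL {F' : Type*} [Field F'] [Finite F'] (h' : Par (Nat.card F') a s) :
    FE PSL(n, F') PSL(n, F) := by
  obtain ⟨K, _, _, χ, Γ, π, m⟩ := exists_mdL h2 h5 h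
  obtain ⟨K', _, _, χ', Γ', π', m'⟩ := exists_mdL h2 h5 h'
  exact m'.fe m

theorem fe_UL {K' : Type*} [Field K'] [Fintype K'] {r : ℕ} (hK : Fintype.card K' = r ^ 2)
    (h' : Par (-r) a s) : FE (PSU n K' r) PSL(n, F) := by
  obtain ⟨K, _, _, χ, Γ, π, m⟩ := exists_mdL h2 h5 h
  obtain ⟨χ', Γ', π', m'⟩ := exists_mdU h2 h5 hK h'
  exact m'.fe m

end H73.FL
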