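import Cfsg.Agent.Lib.FLU.Defs

/-! # Descent of conjugating elements -/

set_option autoImplicit false

namespace H73.FL

open Subgroup Cfsg H69 Matrix
open Equiv (Perm)
open scoped MatrixGroups

namespace DESC

section
variable {R : Type*} [CommRing R] [Finite R]

theorem unit_of {b : R} (h : ∀ v, b * v = 0 → v = 0) : IsUnit b := by
  obtain ⟨v, hv⟩ := Finite.injective_iff_surjective.1 (show Function.Injective (b * ·) from fun x y e =>
    sub_eq_zero.1 (h _ (by rw [mul_sub, sub_eq_zero]; exact e))) 1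
  exact .of_mul_eq_one v hv

theorem idem (t : R) {n : ℕ} (hn : 0 < n) : ∃ m, t ^ (n * (m + 1)) * t ^ (n * (m + 1)) = t ^ (n * (m + 1)) := by
  obtain ⟨a, b, ab, e⟩ : ∃ a b, a < b ∧ t ^ a = t ^ b := by
    obtain ⟨a, b, ab, e⟩ := Finite.exists_ne_map_eq_of_infinite fun k : ℕ => t ^ k
    rcases lt_or_gt_of_ne ab with l | l
    exacts [⟨a, b, l, e⟩, ⟨b, a, l, e.symm⟩]
  obtain ⟨p, rfl⟩ := Nat.exists_eq_add_of_lt ab
  have k : ∀ k, t ^ a * t ^ ((p + 1) * k) = t ^ a := fun k => by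
    induction k with
    | zero => simp
    | succ k ih => rw [mul_add, pow_add, ← mul_assoc, ih, mul_one, ← pow_add, ← add_assoc, ← e]
  obtain ⟨d, hd⟩ := Nat.exists_eq_add_of_le (show a ≤ n * ((p + 1) * a + p + 1) from
    le_trans (by nlinarith) (Nat.le_mul_of_pos_left _ hn))
  refine ⟨(p + 1) * a + p, ?_⟩
  nth_rewrite 1 [hd]
  rw [pow_add, mul_right_comm, show n * ((p + 1) * a + p + 1) = (p + 1) * (n * (a + 1)) by ring, k, ← pow_add, ← hd]
  congr 1; ring

variable (τ : R →+* R) (hτ : ∀ x, τ (τ x) = x) {θ : R} (hu : IsUnit θ) (hθ : τ θ = -θ) (h2 : IsUnit (2 : R))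
include hu hθ h2

theorem h90 {c : R} (hc : c * τ c = 1) : ∃ b, IsUnit b ∧ c * τ b = b := by
  obtain ⟨n, hn, cn⟩ := isOfFinOrder_iff_pow_eq_one.1 (isOfFinOrder_iff_isUnit.2 (IsUnit.of_mul_eq_one _ hc))
  obtain ⟨m, hm⟩ := idem (1 + c) hn
  have e1 : c * τ (1 + c) = 1 + c := by rw [map_add, map_one, mul_add, hc, mul_one, add_comm]
  obtain ⟨M, hM⟩ := Nat.exists_eq_add_one_of_ne_zero (show n * (m + 1) ≠ 0 by positivity)
  have e2 : τ ((1 + c) ^ (M + 1)) = (1 + c) ^ (M + 1) := by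
    nth_rewrite 2 [← e1]
    rw [mul_pow, map_pow, ← hM, pow_mul c, cn, one_pow, one_mul]
  have e3 : ∀ v, c * v = v → ∀ k, (1 + c) ^ k * v = 2 ^ k * v := fun v hv k => by
    induction k with
    | zero => simp
    | succ k ih => linear_combination (1 + c) * ih + 2 ^ k * hv
  rw [hM] at hm
  have e4 : (1 + c) ^ (M + 1) = (1 + c) ^ M * (1 + c) := pow_succ ..
  have e5 := fun v hv => e3 v hv (M + 1)
  generalize (1 + c) ^ (M + 1) = η at *
  refine ⟨η * (1 + c) + (1 - η) * θ * (c - 1), unit_of fun v hv => ?_, ?_⟩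
  · have v1 : η * (1 + c) * v = 0 := by linear_combination η * hv + ((c - 1) * θ - (1 + c)) * v * hm
    have v2 : η * v = 0 := by linear_combination (1 + c) ^ M * v1 - v * hm + η * v * e4
    have v3 : c * v = v := sub_eq_zero.1 (hu.mul_right_eq_zero.1 (by linear_combination hv - v1 + θ * (c - 1) * v2))
    exact (h2.pow _).mul_right_eq_zero.1 ((e5 v v3).symm.trans v2)
  · simp only [map_add, map_mul, map_sub, map_one, e2, hθ]
    linear_combination (η - (1 - η) * θ) * hc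

include hτ in
theorem nrm (c : Rˣ) (hc : τ c = c) : ∃ b : Rˣ, τ b * c * b = 1 := by
  let t : Rˣ →* Rˣ := Units.map τ
  have tt : ∀ u, t (t u) = u := fun u => Units.ext (hτ u)
  let N : Rˣ →* Rˣ := MonoidHom.id _ * t
  let D : Rˣ →* Rˣ := MonoidHom.id _ / t
  have e1 : D.range = N.ker := Subgroup.ext fun u => ⟨by
    rintro ⟨u, rfl⟩
    show u / t u * t (u / t u) = 1
    rw [map_div, tt, div_mul_div_cancel, div_self'], fun k => by
    obtain ⟨b, hb, e⟩ := h90 τ hu hθ h2 (c := u) (congrArg Units.val (show u * t u = 1 from k))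
    lift b to Rˣ using hb
    exact ⟨b, div_eq_iff_eq_mul.2 (Units.ext e.symm)⟩⟩
  have e2 : N.range = D.ker := eq_of_le_of_card_ge (by
    rintro _ ⟨u, rfl⟩
    show u * t u / t (u * t u) = 1
    rw [map_mul, tt, mul_comm, div_self']) (by
    have a := N.ker.card_mul_index
    have b := D.ker.card_mul_index
    rw [index_ker] at a
    rw [index_ker, e1, ← a, mul_comm] at b
    exact (Nat.eq_of_mul_eq_mul_left Nat.card_pos b).le)
  obtain ⟨b, hb⟩ := e2.ge (inv_mem (show c ∈ D.ker from div_eq_one.2 (Units.ext hc.symm)))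
  refine ⟨b, congrArg Units.val (show t b * c * b = 1 from ?_)⟩
  rw [mul_right_comm, mul_comm (t b), show b * t b = c⁻¹ from hb, inv_mul_cancel]

end

variable {A : Type*} [Ring A] [Finite A]

theorem core (σ : A →+ A) (h1 : σ 1 = 1) (hσ : ∀ x, σ (σ x) = x) (hm : ∀ x y, x * y = y * x → σ (x * y) = σ x * σ y)
    {θ : A} (hu : IsUnit θ) (hc : ∀ x, θ * x = x * θ) (hθ : σ θ = -θ) (h2 : IsUnit (2 : A)) {c : A} (cu : IsUnit c)
    (hs : ∀ z, c * z = z * c → c * σ z = σ z * c) :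
    (c * σ c = 1 → ∃ b : Aˣ, (∀ z, c * z = z * c → z * b = b * z) ∧ c * σ b = b) ∧
      (σ c = c → ∃ b : Aˣ, (∀ z, c * z = z * c → z * b = b * z) ∧ σ b * c * b = 1) := by
  let R := Subring.centralizer {z : A | c * z = z * c}
  have cm : ∀ x y : R, (x : A) * y = y * x := fun x y => y.2 x (x.2 c rfl)
  letI : CommRing R := { (inferInstance : Ring R) with mul_comm := fun x y => Subtype.ext (cm x y) }
  let τ : R →+* R :=
    { toFun := fun r => ⟨σ r, fun z hz => by
        have := r.2 _ (hs z hz)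
        rw [← hσ z, ← hm _ _ this, this, hm _ _ this.symm]⟩
      map_one' := Subtype.ext h1
      map_mul' := fun x y => Subtype.ext (hm _ _ (cm x y))
      map_zero' := Subtype.ext σ.map_zero
      map_add' := fun x y => Subtype.ext (σ.map_add x y) }
  have un : ∀ r : R, IsUnit (r : A) → IsUnit r := fun r hr => unit_of fun v hv =>
    Subtype.ext (hr.mul_right_eq_zero.1 (congrArg Subtype.val hv))
  let θ' : R := ⟨θ, fun z _ => (hc z).symm⟩
  let c' : R := ⟨c, fun z hz => hz.symm⟩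
  refine ⟨fun e => ?_, fun e => ?_⟩
  · obtain ⟨b, hb, k⟩ := h90 τ (un θ' hu) (Subtype.ext hθ) (un 2 h2) (c := c') (Subtype.ext e)
    exact ⟨(hb.map R.subtype).unit, b.2, congrArg Subtype.val k⟩
  · obtain ⟨b, k⟩ := nrm τ (fun x => Subtype.ext (hσ x)) (un θ' hu) (Subtype.ext hθ) (un 2 h2) (un c' cu).unit
      (Subtype.ext e)
    exact ⟨(b.isUnit.map R.subtype).unit, b.1.2, congrArg Subtype.val k⟩

end DESC

variable {A : Type*} [Ring A] [Finite A]

theorem desc_hom (σ : A →+* A) (hσ : ∀ x, σ (σ x) = x) {θ : A} (hu : IsUnit θ)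
    (hc : ∀ x, θ * x = x * θ) (hθ : σ θ = -θ) (h2 : IsUnit (2 : A)) (g : Aˣ) :
    ∃ g' : Aˣ, σ g' = g' ∧ ∀ x y : A, σ x = x → σ y = y → y * g = g * x → y * g' = g' * x := by
  let t : Aˣ →* Aˣ := Units.map σ
  have e : (g⁻¹ * t g) * t (g⁻¹ * t g) = 1 := by
    rw [map_mul, map_inv, show t (t g) = g from Units.ext (hσ g)]; group
  generalize hd : g⁻¹ * t g = c at e
  have e' : (c : A) * σ c = 1 := congrArg Units.val e
  have gc : (g : A) * c = σ g := congrArg Units.val (show g * c = t g by rw [← hd, mul_inv_cancel_left])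
  obtain ⟨b, hb, k⟩ := (DESC.core σ.toAddMonoidHom σ.map_one hσ (fun x y _ => σ.map_mul x y) hu hc hθ h2 c.isUnit
    fun z hz => by
      have := congrArg σ hz
      rw [map_mul, map_mul] at this
      show c * σ z = σ z * c
      calc _ = c * (σ z * σ c) * c := by
            rw [mul_assoc, mul_assoc, show σ c * c = 1 from congrArg Units.val (mul_eq_one_comm.1 e), mul_one]
        _ = _ := by rw [← this, ← mul_assoc, e', one_mul]).1 e'
  refine ⟨g * b, by rw [Units.val_mul, map_mul, ← gc, mul_assoc]; exact congrArg _ k, fun x y hx hy h => ?_⟩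
  have := congrArg σ h
  rw [map_mul, map_mul, hx, hy, ← gc, ← mul_assoc, h, mul_assoc, mul_assoc, Units.mul_right_inj] at this
  rw [Units.val_mul, ← mul_assoc, h, mul_assoc, mul_assoc, hb x this.symm]

theorem desc_anti (σ : A →+ A) (hm : ∀ x y, σ (x * y) = σ y * σ x) (h1 : σ 1 = 1)
    (hσ : ∀ x, σ (σ x) = x) {θ : A} (hu : IsUnit θ) (hc : ∀ x, θ * x = x * θ) (hθ : σ θ = -θ)
    (h2 : IsUnit (2 : A)) (g : Aˣ) : ∃ g' : Aˣ, σ g' * g' = 1 ∧
      ∀ x y : Aˣ, σ x * x = 1 → σ y * y = 1 → y * g = g * x → y * g' = g' * x := by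
  have su : IsUnit (σ g) := ⟨⟨σ g, σ (g⁻¹ : Aˣ), by rw [← hm, Units.inv_mul, h1], by rw [← hm, Units.mul_inv, h1]⟩, rfl⟩
  have e : σ (σ g * g) = σ g * g := by rw [hm, hσ]
  obtain ⟨b, hb, k⟩ := (DESC.core σ h1 hσ (fun x y h => by rw [h, hm]) hu hc hθ h2 (su.mul g.isUnit)
    fun z hz => by rw [← e, ← hm, ← hz, hm]).2 e
  refine ⟨g * b, by rw [Units.val_mul, hm, ← k]; simp only [mul_assoc], fun x y hx hy h => ?_⟩
  have h' : (y : A) * g = g * x := congrArg Units.val h
  have := congrArg σ h'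
  rw [hm, hm] at this
  have cx : σ g * g * x = x * (σ g * g) := by
    rw [mul_assoc, ← h', ← mul_assoc, ← mul_assoc]
    congr 1
    calc _ = x * (σ x * σ g) * y := by
          rw [← mul_assoc, ← Units.eq_inv_of_mul_eq_one_right hx |>.symm, Units.mul_inv, one_mul]
      _ = _ := by rw [← this, mul_assoc, mul_assoc, hy, mul_one]
  rw [← mul_assoc, h, mul_assoc, mul_assoc]
  exact congrArg _ (Units.ext (hb x cx))

end H73.FL
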