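import Mathlib
import Cfsg.Agent.Base
import Cfsg.Agent.Lib.LocStruct.SylowIn

/-! # The 2-fusion systems of linear and unitary groups: vocabulary

See `blueprint/FLU/README.md`. -/

set_option autoImplicit false

namespace H73.FL

open Subgroup Cfsg H69 Matrix
open Equiv (Perm)
open scoped MatrixGroups

section Fus
variable {W G G' : Type*} [Group W] [Group G] [Group G']

/-- Conjugations by elements of `L` between elements of `i W` are induced by `L'` on `j W`. -/
def Fw (L : Subgroup G) (L' : Subgroup G') (i : W →* G) (j : W →* G') : Prop :=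
  ∀ g ∈ L, ∃ g' ∈ L', ∀ x y : W, i y = g * i x * g⁻¹ → j y = g' * j x * g'⁻¹

/-- `L` and `L'` induce the same fusion on the common Sylow 2-subgroup. -/
structure Fz (L : Subgroup G) (L' : Subgroup G') (i : W →* G) (j : W →* G') : Prop where
  si : IsSylowIn 2 i.range L
  sj : IsSylowIn 2 j.range L'
  fw : Fw L L' i j
  bw : Fw L' L j i

/-- `G` and `G'` have isomorphic 2-fusion systems. -/
def FE (G G' : Type*) [Group G] [Group G'] : Prop := ∃ R : Subgroup (G × G'),
  Fz ⊤ ⊤ ((MonoidHom.fst G G').comp R.subtype) ((MonoidHom.snd G G').comp R.subtype)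

theorem Fz.symm {L : Subgroup G} {L' : Subgroup G'} {i : W →* G} {j : W →* G'} (h : Fz L L' i j) :
    Fz L' L j i := ⟨h.sj, h.si, h.bw, h.fw⟩

theorem Fw.one {L : Subgroup G} {L' : Subgroup G'} {i : W →* G} {j : W →* G'} (h : Fw L L' i j)
    {x : W} (e : i x = 1) : j x = 1 := by
  obtain ⟨g, -, d⟩ := h 1 L.one_mem
  simpa using d 1 x (by simpa using e)

/-- The centre of a Sylow 2-subgroup is not elementary abelian. -/
def Z4 (G : Type*) [Group G] : Prop :=
  ∃ S : Subgroup G, IsSylowIn 2 S ⊤ ∧ ∃ x ∈ S, x * x ≠ 1 ∧ ∀ y ∈ S, x * y = y * x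

/-- There is an elementary abelian group of order eight whose involutions are conjugate. -/
def PE8 (G : Type*) [Group G] : Prop := ∃ x y w : G, x ≠ 1 ∧ x * x = 1 ∧ x * y = y * x ∧
  x * w = w * x ∧ y * w = w * y ∧ IsConj x y ∧ IsConj x w ∧ IsConj x (x * y) ∧ IsConj x (x * w) ∧
  IsConj x (y * w) ∧ IsConj x (x * y * w)

/-- There is an elementary abelian group of order eight with an automorphism of order seven. -/
def X7 (G : Type*) [Group G] : Prop := ∃ x y w g : G, x ≠ 1 ∧ x * x = 1 ∧ x * y = y * x ∧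
  x * w = w * x ∧ g * x * g⁻¹ = y ∧ g * y * g⁻¹ = w ∧ g * w * g⁻¹ = x * y

end Fus

/-- `2 ^ k` is the 2-part of `m`. -/
def V2 (m k : ℕ) : Prop := ∃ u, Odd u ∧ m = 2 ^ k * u

/-- The action of the Frobenius map on the roots of unity of order `2 ^ (a + 1)`. -/
def ee (a : ℕ) (s : Bool) : ℕ := bif s then 2 ^ a + 1 else 2 ^ a - 1

/-- `2 ^ a` is the 2-part of `z - 1` (`s = true`) or of `z + 1` (`s = false`), `a ≥ 2`. -/
structure Par (z : ℤ) (a : ℕ) (s : Bool) : Prop where
  two : 2 ≤ a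
  md : z ≡ ee a s [ZMOD 2 ^ (a + 1)]

/-- The exponent of the 2-part of the order of the general linear group. -/
def vG (n a : ℕ) (s : Bool) : ℕ :=
  (bif s then n * a else n / 2 * (a + 1) + n % 2) + (if n ≤ 3 then 1 else 3)

/-- The exponent of the 2-part of the order of the projective special linear group. -/
def vP (n a : ℕ) (s : Bool) : ℕ :=
  if n = 2 then a else if n = 3 then (bif s then 2 * a + 1 else a + 2)
  else if n = 4 then (bif s then 3 * a + 1 else 2 * a + 3) else (bif s then 4 * a + 3 else 2 * a + 5)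

/-- The abstract monomial group. -/
abbrev Mo (ι C : Type*) [CommGroup C] : Type _ := (ι → C) ⋊[mulAutArrow] Perm ι

section Mono
variable {ι C K : Type*} [Fintype ι] [DecidableEq ι] [CommGroup C] [Field K]

omit [Fintype ι] [DecidableEq ι] in
theorem Mo.mul_left (x y : Mo ι C) (i : ι) : (x * y).left i = x.left i * y.left (x.right⁻¹ i) := rfl
omit [Fintype ι] [DecidableEq ι] in
theorem Mo.inv_left (x : Mo ι C) (i : ι) : x⁻¹.left i = (x.left (x.right i))⁻¹ := rfl

/-- The monomial matrix. -/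
def mat (χ : C →* Kˣ) : Mo ι C →* Matrix ι ι K where
  toFun x := Matrix.of fun i j => if i = x.right j then (χ (x.left i) : K) else 0
  map_one' := by
    ext i j
    simp [Matrix.one_apply]
  map_mul' x y := by
    ext i k
    rw [Matrix.mul_apply, Finset.sum_eq_single (y.right k) (fun j _ h => by simp [h]) (by simp)]
    simp only [of_apply, SemidirectProduct.mul_right, Perm.mul_apply, if_true]
    split_ifs with h
    · subst h
      simp [Mo.mul_left]
    · simp [h]

/-- The monomial representation. -/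
def rho (χ : C →* Kˣ) : Mo ι C →* GL ι K := (mat χ).toHomUnits

theorem rho_apply (χ : C →* Kˣ) (x : Mo ι C) (i j : ι) :
    (rho χ x : Matrix ι ι K) i j = if i = x.right j then (χ (x.left i) : K) else 0 := rfl

/-- The special linear group inside the general linear group. -/
abbrev SK (ι K : Type*) [Fintype ι] [DecidableEq ι] [Field K] : Subgroup (GL ι K) :=
  (GeneralLinearGroup.det : GL ι K →* Kˣ).ker

/-- The space of intertwining matrices. -/
def HomSp {P : Type*} [Group P] (α β : P →* GL ι K) : Submodule K (Matrix ι ι K) where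
  carrier := {X | ∀ x, (β x : Matrix ι ι K) * X = X * α x}
  add_mem' ha hb x := by rw [mul_add, add_mul, ha x, hb x]
  zero_mem' x := by simp
  smul_mem' c X h x := by rw [Matrix.mul_smul, Matrix.smul_mul, h x]

/-- A group `Γ` of matrices with the monomial group `W` as Sylow 2-subgroup, and the projective
special group `H` of `Γ`. -/
structure Md (χ : C →* Kˣ) (W : Subgroup (Mo ι C)) (Γ : Subgroup (GL ι K)) {H : Type*} [Group H]
    (π : ↥(Γ ⊓ SK ι K) →* H) : Prop where
  inj : Function.Injective χ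
  two : (2 : K) ≠ 0
  syl : IsSylowIn 2 (W.map (rho χ)) Γ
  ds : ∀ g : GL ι K, ∃ g' ∈ Γ, ∀ x ∈ Γ, ∀ y ∈ Γ, y = g * x * g⁻¹ → y = g' * x * g'⁻¹
  od : ∀ g ∈ Γ, Odd (orderOf g) →
    ∃ c ∈ Γ, (∀ x ∈ W, c * rho χ x = rho χ x * c) ∧ g * c ∈ SK ι K
  surj : Function.Surjective π
  ker : ∀ g, π g = 1 ↔ ∃ c : K, (g.1 : Matrix ι ι K) = c • (1 : Matrix ι ι K)

end Mono

/-- The roots of unity of order `2 ^ (a + 1)`. -/
abbrev CC (a : ℕ) : Type := Multiplicative (ZMod (2 ^ (a + 1)))

/-- `0 ↔ 1, 2 ↔ 3, …` -/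
def w0f (n : ℕ) (i : Fin n) : Fin n :=
  if i.1 % 2 = 0 then (if h : i.1 + 1 < n then ⟨i.1 + 1, h⟩ else i) else ⟨i.1 - 1, by omega⟩

theorem w0f_w0f (n : ℕ) (i : Fin n) : w0f n (w0f n i) = i := by
  have := i.2
  apply Fin.ext
  unfold w0f
  split_ifs <;> simp only at * <;> omega

/-- The involution `(0 1)(2 3)…`. -/
def w0 (n : ℕ) : Perm (Fin n) := ⟨w0f n, w0f n, w0f_w0f n, w0f_w0f n⟩

/-- The twisting permutation. -/
def ww (n : ℕ) (s : Bool) : Perm (Fin n) := bif s then 1 else w0 n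

theorem ww_ww (n : ℕ) (s : Bool) (i : Fin n) : ww n s (ww n s i) = i := by
  cases s
  exacts [w0f_w0f n i, rfl]

theorem ww_comm {n : ℕ} (s : Bool) {p : Perm (Fin n)} (h : p * w0 n = w0 n * p) (i : Fin n) :
    p (ww n s i) = ww n s (p i) := by
  cases s
  exacts [DFunLike.congr_fun h i, rfl]

/-- The common Sylow 2-subgroup. -/
def WW (n a : ℕ) (s : Bool) : Subgroup (Mo (Fin n) (CC a)) where
  carrier := {x | x.right * w0 n = w0 n * x.right ∧ ∀ i, x.left (ww n s i) ^ ee a s = x.left i}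
  one_mem' := ⟨by simp, fun i => by simp⟩
  mul_mem' {x y} hx hy := ⟨(Commute.mul_left hx.1 hy.1 :), fun i => by
    rw [Mo.mul_left, Mo.mul_left, mul_pow, hx.2, ww_comm s (Commute.inv_left hx.1 :), hy.2]⟩
  inv_mem' {x} hx := ⟨(Commute.inv_left hx.1 :), fun i => by
    rw [Mo.inv_left, Mo.inv_left, inv_pow, ww_comm s hx.1, hx.2]⟩

theorem mem_WW {n a : ℕ} {s : Bool} {x : Mo (Fin n) (CC a)} : x ∈ WW n a s ↔
    x.right * w0 n = w0 n * x.right ∧ ∀ i, x.left (ww n s i) ^ ee a s = x.left i := Iff.rfl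

theorem auto_lemmas_Defs : True := by
  have := @Fw.eq_1.{0, 0, 0}
  have := @FE.eq_1.{0, 0}
  have := @Z4.eq_1.{0}
  have := @PE8.eq_1.{0}
  have := @X7.eq_1.{0}
  have := @V2.eq_1
  have := @ee.eq_1
  have := @vG.eq_1
  have := @vP.eq_1
  have := @mat.eq_1.{0, 0, 0}
  have := @rho.eq_1.{0, 0, 0}
  have := @HomSp.eq_1.{0, 0, 0}
  have := @w0f.eq_1
  have := @w0.eq_1
  have := @ww.eq_1
  have := @WW.eq_1
  trivial

end H73.FL
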