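import Cfsg.Agent.Lib.FLU.Defs

/-! # Isomorphic fusion systems: an equivalence relation -/

set_option autoImplicit false
set_option linter.unusedSectionVars false

namespace H73.FL

open Subgroup Cfsg H69 Matrix
open Equiv (Perm)
open scoped MatrixGroups

variable {W G G' G'' : Type*} [Group W] [Group G] [Group G'] [Group G''] {i : W →* G} {j : W →* G'}

local instance FE.fact2 : Fact (Nat.Prime 2) := ⟨Nat.prime_two⟩

theorem Fz.chg {L : Subgroup G} {L' : Subgroup G'} {W' : Type*} [Group W'] {i' : W' →* G} {j' : W' →* G'}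
    (h : Fz L L' i j) (h1 : ∀ x', ∃ x, i x = i' x' ∧ j x = j' x') (h2 : ∀ x, ∃ x', i' x' = i x ∧ j' x' = j x) :
    Fz L L' i' j' := by
  refine ⟨?_, ?_, fun g hg => ?_, fun g hg => ?_⟩
  · rw [show i'.range = i.range from Subgroup.ext fun g => ⟨fun ⟨x, e⟩ => let ⟨y, f, _⟩ := h1 x; ⟨y, f.trans e⟩,
      fun ⟨x, e⟩ => let ⟨y, f, _⟩ := h2 x; ⟨y, f.trans e⟩⟩]
    exact h.si
  · rw [show j'.range = j.range from Subgroup.ext fun g => ⟨fun ⟨x, e⟩ => let ⟨y, _, f⟩ := h1 x; ⟨y, f.trans e⟩,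
      fun ⟨x, e⟩ => let ⟨y, _, f⟩ := h2 x; ⟨y, f.trans e⟩⟩]
    exact h.sj
  · obtain ⟨g', hg', d⟩ := h.fw g hg
    refine ⟨g', hg', fun x y => ?_⟩
    obtain ⟨x, e1, e2⟩ := h1 x
    obtain ⟨y, e3, e4⟩ := h1 y
    rw [← e1, ← e2, ← e3, ← e4]
    exact d x y
  · obtain ⟨g', hg', d⟩ := h.bw g hg
    refine ⟨g', hg', fun x y => ?_⟩
    obtain ⟨x, e1, e2⟩ := h1 x
    obtain ⟨y, e3, e4⟩ := h1 y
    rw [← e1, ← e2, ← e3, ← e4]
    exact d x y

theorem Fz.fe (h : Fz ⊤ ⊤ i j) : FE G G' :=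
  ⟨(i.prod j).range, h.chg (fun ⟨_, x, e⟩ => ⟨x, congrArg Prod.fst e, congrArg Prod.snd e⟩)
    fun x => ⟨⟨_, x, rfl⟩, rfl, rfl⟩⟩

theorem FE.symm (h : FE G G') : FE G' G := let ⟨_, h⟩ := h; h.symm.fe

theorem Fw.eq {L : Subgroup G} {L' : Subgroup G'} (h : Fw L L' i j) {x y : W} (e : i x = i y) : j x = j y := by
  have := h.one (x := y⁻¹ * x) (by rw [map_mul, map_inv, e, inv_mul_cancel])
  rwa [map_mul, map_inv, inv_mul_eq_one, eq_comm] at this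

/-- the Sylow subgroup of `L` itself as the common group -/
theorem Fz.nf {L : Subgroup G} {L' : Subgroup G'} (h : Fz L L' i j) :
    ∃ ι : i.range →* G', Fz L L' i.range.subtype ι := by
  choose s hs using fun x : i.range => x.2
  refine ⟨MonoidHom.mk' (fun x => j (s x)) fun x y => ?_, h.chg (fun x => ⟨s x, hs x, rfl⟩)
    fun x => ⟨⟨_, x, rfl⟩, rfl, h.fw.eq (hs _)⟩⟩
  rw [← map_mul]
  exact h.fw.eq (by rw [map_mul, hs, hs, hs]; rfl)

theorem Fz.inj {S L : Subgroup G} {L' : Subgroup G'} {ι : S →* G'} (h : Fz L L' S.subtype ι) :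
    Function.Injective ι := fun _ _ e => Subtype.ext (h.bw.eq e)

variable [Finite G] [Finite G']

omit [Finite G] [Finite G'] in
theorem Fz.cj (h : Fz ⊤ ⊤ i j) (c : G') : Fz ⊤ ⊤ i ((MulAut.conj c).toMonoidHom.comp j) := by
  refine ⟨h.si, ?_, fun g hg => ?_, fun g hg => ?_⟩
  · rw [MonoidHom.range_comp]
    exact h.sj.cj_of_mem (mem_top c)
  · obtain ⟨g', -, d⟩ := h.fw g hg
    refine ⟨c * g' * c⁻¹, trivial, fun x y e => ?_⟩
    show c * j y * c⁻¹ = _ * (c * j x * c⁻¹) * _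
    rw [d x y e]; group
  · obtain ⟨g', -, d⟩ := h.bw (c⁻¹ * g * c) trivial
    refine ⟨g', trivial, fun x y (e : c * j y * c⁻¹ = _ * (c * j x * c⁻¹) * _) => d x y ?_⟩
    calc j y = c⁻¹ * (c * j y * c⁻¹) * c := by group
      _ = _ := by rw [e]; group

omit [Finite G'] in
/-- normal form at a given Sylow subgroup -/
theorem FE.nf (h : FE G G') {S : Subgroup G} (hS : IsSylowIn 2 S ⊤) : ∃ ι : S →* G', Fz ⊤ ⊤ S.subtype ι := by
  obtain ⟨R, h⟩ := h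
  obtain ⟨c, -, rfl⟩ := h.si.conj hS
  rw [← MonoidHom.range_comp]
  exact (h.symm.cj c).symm.nf

theorem FE.of_equiv (e : G ≃* G') : FE G G' := by
  obtain ⟨S, hS⟩ := exists_isSylowIn 2 (⊤ : Subgroup G)
  refine Fz.fe (i := S.subtype) (j := e.toMonoidHom.comp S.subtype) ⟨by rwa [range_subtype], ?_,
    fun g _ => ⟨e g, trivial, fun x y k => ?_⟩, fun g _ => ⟨e.symm g, trivial, fun x y k => e.injective ?_⟩⟩
  · rw [MonoidHom.range_comp, range_subtype, ← map_top_of_surjective e.toMonoidHom e.surjective]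
    exact hS.map _
  · simpa using congrArg e k
  · simpa using k

theorem FE.trans [Finite G''] (h : FE G G') (h' : FE G' G'') : FE G G'' := by
  obtain ⟨S, hS⟩ := exists_isSylowIn 2 (⊤ : Subgroup G')
  obtain ⟨a, ha⟩ := h.symm.nf hS
  obtain ⟨b, hb⟩ := h'.nf hS
  refine Fz.fe ⟨ha.sj, hb.sj, fun g hg => ?_, fun g hg => ?_⟩
  · obtain ⟨g1, -, d1⟩ := ha.bw g hg
    obtain ⟨g2, -, d2⟩ := hb.fw g1 trivial
    exact ⟨g2, trivial, fun x y e => d2 x y (d1 x y e)⟩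
  · obtain ⟨g1, -, d1⟩ := hb.bw g hg
    obtain ⟨g2, -, d2⟩ := ha.fw g1 trivial
    exact ⟨g2, trivial, fun x y e => d2 x y (d1 x y e)⟩

/-- the form of the statement -/
theorem fe_iff (S : Sylow 2 G) : (∃ ι : ↥(S : Subgroup G) →* G',
    (groupFusionSystem (S : Subgroup G)).IsRealizedBy ι ∧
      ∃ T : Sylow 2 G', (T : Subgroup G') = ι.range) ↔ FE G G' := by
  refine ⟨fun ⟨ι, ⟨h1, h2⟩, T, hT⟩ => Fz.fe (i := (S : Subgroup G).subtype) (j := ι)
    ⟨by rw [range_subtype]; exact isSylowIn_top S, hT ▸ isSylowIn_top T, fun g _ => ?_, fun g _ => ?_⟩, fun h => ?_⟩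
  · let P := (S : Subgroup G) ⊓ (S : Subgroup G).comap (MulAut.conj g).toMonoidHom
    obtain ⟨g', d⟩ := (h2 P inf_le_left ((MulAut.conj g).toMonoidHom.comp P.subtype) fun x => x.2.2).1
      ⟨inf_le_left, fun x => x.2.2, g, fun _ => rfl⟩
    refine ⟨g', trivial, fun x y (e : y.1 = g * x.1 * g⁻¹) => ?_⟩
    rw [← d ⟨x, x.2, show g * x.1 * g⁻¹ ∈ (S : Subgroup G) from e ▸ y.2⟩]
    exact congrArg ι (Subtype.ext e)
  · let P := (ι.range.comap ((MulAut.conj g).toMonoidHom.comp ι)).map (S : Subgroup G).subtype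
    have hP : P ≤ S := map_subtype_le _
    have h6 : ∀ x : P, g * ι (inclusion hP x) * g⁻¹ ∈ ι.range := by
      rintro ⟨_, x, hx, rfl⟩
      exact hx
    let χ : P →* (S : Subgroup G) := (MonoidHom.ofInjective h1).symm.toMonoidHom.comp
      (((MulAut.conj g).toMonoidHom.comp (ι.comp (inclusion hP))).codRestrict _ h6)
    have h7 : ∀ x, ι (χ x) = g * ι (inclusion hP x) * g⁻¹ := fun x => MonoidHom.apply_ofInjective_symm h1 _
    obtain ⟨-, -, g', d⟩ := (h2 P hP ((S : Subgroup G).subtype.comp χ) fun x => (χ x).2).2 ⟨g, h7⟩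
    refine ⟨g', trivial, fun x y e => ?_⟩
    have m : x.1 ∈ P := ⟨x, ⟨y, e⟩, rfl⟩
    rw [show y = χ ⟨x, m⟩ from h1 (e.trans (h7 ⟨x, m⟩).symm)]
    exact d ⟨x, m⟩
  · obtain ⟨ι, h⟩ := h.nf (isSylowIn_top S)
    refine ⟨ι, ⟨h.inj, fun P hP φ hφ => ⟨fun ⟨_, _, g, hg⟩ => ?_, fun ⟨g, hg⟩ => ?_⟩⟩, h.sj.exists_sylow_top⟩
    · obtain ⟨g', -, d⟩ := h.fw g trivial
      exact ⟨g', fun x => d ⟨x, hP x.2⟩ ⟨φ x, hφ x⟩ (hg x)⟩
    · obtain ⟨g', -, d⟩ := h.bw g trivial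
      exact ⟨hP, hφ, g', fun x => d ⟨x, hP x.2⟩ ⟨φ x, hφ x⟩ (hg x)⟩

theorem FE.iso (h : FE G G') (S : Sylow 2 G) (T : Sylow 2 G') :
    Nonempty ((S : Subgroup G) ≃* (T : Subgroup G')) := by
  obtain ⟨ι, h⟩ := h.nf (isSylowIn_top S)
  obtain ⟨T', e⟩ := h.sj.exists_sylow_top
  exact ⟨(MonoidHom.ofInjective h.inj).trans ((MulEquiv.subgroupCongr e.symm).trans (Sylow.equiv T' T))⟩

omit [Finite G'] in
theorem Fz.quo_fw {L : Subgroup G} {L' : Subgroup G'} (h : Fz L L' i j) {H H' : Type*} [Group H]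
    [Group H'] (π : L →* H) (π' : L' →* H') (hs : Function.Surjective π) (hc : π.ker ≤ center L)
    (e : ∀ x : W, π ⟨i x, h.si.le ⟨x, rfl⟩⟩ = 1 → π' ⟨j x, h.sj.le ⟨x, rfl⟩⟩ = 1) :
    Fw ⊤ ⊤ (π.comp (i.codRestrict L fun x => h.si.le ⟨x, rfl⟩)) (π'.comp (j.codRestrict L' fun x => h.sj.le ⟨x, rfl⟩)) := by
  intro k _
  obtain ⟨g, rfl⟩ := hs k
  obtain ⟨g', hg', d⟩ := h.fw g g.2
  refine ⟨π' ⟨g', hg'⟩, trivial, fun x y k => ?_⟩
  set a := i.codRestrict L fun x => h.si.le ⟨x, rfl⟩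
  set b := j.codRestrict L' fun x => h.sj.le ⟨x, rfl⟩
  have z1 : π ((a y)⁻¹ * (g * a x * g⁻¹)) = 1 := by
    rw [map_mul, map_inv, inv_mul_eq_one, map_mul, map_mul, map_inv]
    exact k
  have zc := mem_center_iff.1 (hc z1)
  have sy : IsSylowIn 2 a.range ⊤ := by
    have := h.si.subgroupOf_top
    rwa [show i.range.subgroupOf L = a.range from Subgroup.ext fun u =>
      ⟨fun ⟨v, hv⟩ => ⟨v, Subtype.ext hv⟩, fun ⟨v, hv⟩ => ⟨v, congrArg Subtype.val hv⟩⟩] at this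
  obtain ⟨m, hm⟩ := isPGroup_iff_mem.1 sy.isP _ ⟨y, rfl⟩
  obtain ⟨n, hn⟩ := isPGroup_iff_mem.1 (isPGroup_cj sy.isP g) _ (cj_mem g ⟨x, rfl⟩)
  generalize hz : (a y)⁻¹ * (g * a x * g⁻¹) = z at z1 zc
  have z2 : z ^ 2 ^ (m + n) = 1 := by
    have := congrArg (· ^ 2 ^ m) hn
    rwa [eq_inv_mul_iff_mul_eq.1 hz.symm |>.symm, ← pow_mul, ← pow_add, add_comm, one_pow, (show Commute _ z from zc _).mul_pow,
      pow_add 2, pow_mul (a y), hm, one_pow, one_mul, ← pow_add] at this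
  obtain ⟨t, ht⟩ : z ∈ a.range := sy.le_of_le_normalizer (R := zpowers z) (isPGroup_iff_mem.2 fun _ ⟨l, hl⟩ =>
    ⟨m + n, by rw [← hl, ← zpow_natCast, ← _root_.zpow_mul, mul_comm, _root_.zpow_mul, zpow_natCast, z2,
      _root_.one_zpow]⟩) le_top
    (le_normalizer_of_le_centralizer (by
      rw [centralizer_zpowers]
      exact fun u _ => mem_centralizer_singleton_iff.2 (zc u))) (mem_zpowers z)
  have e1 : b (y * t) = ⟨g', hg'⟩ * b x * ⟨g', hg'⟩⁻¹ := Subtype.ext (d x (y * t) (congrArg Subtype.val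
    (show a (y * t) = g * a x * g⁻¹ by rw [map_mul, ht, ← hz, mul_inv_cancel_left])))
  have e2 : π' (b t) = 1 := e t (show π (a t) = 1 from ht ▸ z1)
  show π' (b y) = _ * π' (b x) * _
  rw [← map_inv, ← map_mul, ← map_mul, ← e1, map_mul, map_mul, e2, mul_one]

omit [Finite G'] in
theorem Fz.quo_syl {L : Subgroup G} (h : IsSylowIn 2 i.range L) {H : Type*} [Group H] (π : L →* H)
    (hs : Function.Surjective π) : IsSylowIn 2 (π.comp (i.codRestrict L fun x => h.le ⟨x, rfl⟩)).range ⊤ := by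
  have := h.subgroupOf_top.map π
  rwa [map_top_of_surjective π hs, show i.range.subgroupOf L = (i.codRestrict L fun x => h.le ⟨x, rfl⟩).range from
    Subgroup.ext fun u => ⟨fun ⟨v, hv⟩ => ⟨v, Subtype.ext hv⟩, fun ⟨v, hv⟩ => ⟨v, congrArg Subtype.val hv⟩⟩,
    ← MonoidHom.range_comp] at this

/-- central quotients -/
theorem Fz.quo {L : Subgroup G} {L' : Subgroup G'} (h : Fz L L' i j) {H H' : Type*} [Group H]
    [Group H'] (π : L →* H) (π' : L' →* H') (hs : Function.Surjective π)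
    (hs' : Function.Surjective π') (hc : π.ker ≤ center L) (hc' : π'.ker ≤ center L')
    (e : ∀ x : W, π ⟨i x, h.si.le ⟨x, rfl⟩⟩ = 1 ↔ π' ⟨j x, h.sj.le ⟨x, rfl⟩⟩ = 1) : FE H H' :=
  Fz.fe ⟨Fz.quo_syl h.si π hs, Fz.quo_syl h.sj π' hs', h.quo_fw π π' hs hc fun x => (e x).1,
    h.symm.quo_fw π' π hs' hc' fun x => (e x).2⟩

end H73.FL
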