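import Cfsg.Agent.Lib.FLU.FE

/-! # Invariants of the fusion system -/

set_option autoImplicit false
set_option linter.unusedSectionVars false

namespace H73.FL

open Subgroup Cfsg H69 Matrix
open Equiv (Perm)
open scoped MatrixGroups

variable {G G' : Type*} [Group G] [Group G'] [Finite G] [Finite G']

attribute [local instance] FE.fact2

namespace IV

theorem fac {m k : ℕ} (h : V2 m k) : m.factorization 2 = k := by
  obtain ⟨u, hu, rfl⟩ := h
  rw [Nat.factorization_mul (by positivity) hu.pos.ne', Nat.Prime.factorization_pow Nat.prime_two]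
  simp [Nat.factorization_eq_zero_of_not_dvd hu.not_two_dvd_nat]

omit [Finite G] in
theorem pg {x y w : G} (x2 : x * x = 1) (y2 : y * y = 1) (w2 : w * w = 1) (xy : x * y = y * x) (xw : x * w = w * x)
    (yw : y * w = w * y) : IsPGroup 2 (closure {x, y, w} : Subgroup G) := by
  have c : ∀ a ∈ ({x, y, w} : Set G), ∀ b ∈ ({x, y, w} : Set G), a * b = b * a := by
    rintro a (rfl | rfl | rfl) b (rfl | rfl | rfl) <;> simp [*]
  have := isMulCommutative_closure c
  refine isPGroup_iff_mem.2 fun g hg => ⟨1, ?_⟩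
  rw [pow_one]
  induction hg using Subgroup.closure_induction with
  | mem a ha => rcases ha with rfl | rfl | rfl <;> rwa [pow_two]
  | one => exact one_pow 2
  | mul a b ha hb h1 h2 => rw [(show Commute a b from setLike_mul_comm ha hb).mul_pow, h1, h2, one_mul]
  | inv a _ h1 => rw [inv_pow, h1, inv_one]

/-- three commuting involutions inside a Sylow subgroup -/
theorem syl {x y w : G} (x2 : x * x = 1) (y2 : y * y = 1) (w2 : w * w = 1) (xy : x * y = y * x) (xw : x * w = w * x)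
    (yw : y * w = w * y) : ∃ S : Subgroup G, IsSylowIn 2 S ⊤ ∧ x ∈ S ∧ y ∈ S ∧ w ∈ S :=
  let ⟨S, hS, l⟩ := exists_isSylowIn_le (pg x2 y2 w2 xy xw yw) le_top
  ⟨S, hS, l (subset_closure (by simp)), l (subset_closure (by simp)), l (subset_closure (by simp))⟩

omit [Finite G] in
theorem sq {x y : G} (x2 : x * x = 1) (h : IsConj x y) : y * y = 1 := by
  obtain ⟨c, rfl⟩ := isConj_iff.1 h
  rw [conj_mul, x2, mul_one, mul_inv_cancel]

omit [Finite G] [Finite G'] in
theorem cj {S : Subgroup G} {ι : S →* G'} (h : Fz ⊤ ⊤ S.subtype ι) {x y : S} (c : IsConj (x : G) y) :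
    IsConj (ι x) (ι y) := by
  obtain ⟨c, e⟩ := isConj_iff.1 c
  obtain ⟨g, -, d⟩ := h.fw c trivial
  exact isConj_iff.2 ⟨g, (d x y e.symm).symm⟩

end IV
open IV

theorem FE.v2 (h : FE G G') {k : ℕ} (e : V2 (Nat.card G) k) : V2 (Nat.card G') k := by
  obtain ⟨S, hS⟩ := exists_isSylowIn 2 (⊤ : Subgroup G)
  obtain ⟨ι, h⟩ := h.nf hS
  have e1 := hS.card_eq_pow_factorization
  have e2 := h.sj.card_eq_pow_factorization
  rw [card_top, fac e, Nat.card_congr (MonoidHom.ofInjective h.inj).toEquiv, e2, card_top] at e1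
  refine ⟨ordCompl[2] (Nat.card G'), ?_, by rw [← e1, Nat.ordProj_mul_ordCompl_eq_self]⟩
  exact Nat.not_even_iff_odd.1 fun t => Nat.not_dvd_ordCompl Nat.prime_two Nat.card_pos.ne' t.two_dvd

theorem FE.z4 (h : FE G G') (e : Z4 G) : Z4 G' := by
  obtain ⟨S, hS, x, hx, x2, xc⟩ := e
  obtain ⟨ι, h⟩ := h.nf hS
  refine ⟨_, h.sj, ι ⟨x, hx⟩, ⟨_, rfl⟩, fun t => x2 (h.bw.one (x := ⟨x, hx⟩ * ⟨x, hx⟩) (by rwa [map_mul])), ?_⟩
  rintro _ ⟨y, rfl⟩
  rw [← map_mul, ← map_mul]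
  exact congrArg ι (Subtype.ext (xc y y.2))

theorem FE.pe8 (h : FE G G') (e : PE8 G) : PE8 G' := by
  obtain ⟨x, y, w, x1, x2, xy, xw, yw, c1, c2, c3, c4, c5, c6⟩ := e
  obtain ⟨S, hS, hx, hy, hw⟩ := syl x2 (sq x2 c1) (sq x2 c2) xy xw yw
  obtain ⟨ι, h⟩ := h.nf hS
  lift x to S using hx
  lift y to S using hy
  lift w to S using hw
  refine ⟨ι x, ι y, ι w, fun t => x1 (h.bw.one t), ?_, ?_, ?_, ?_, cj h c1, cj h c2, ?_, ?_, ?_, ?_⟩ <;>
    simp only [← map_mul]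
  exacts [h.fw.one x2, h.fw.eq xy, h.fw.eq xw, h.fw.eq yw, cj h c3, cj h c4, cj h c5, cj h c6]

theorem FE.x7 (h : FE G G') (e : X7 G) : X7 G' := by
  obtain ⟨x, y, w, g, x1, x2, xy, xw, c1, c2, c3⟩ := e
  have y2 := sq x2 (isConj_iff.2 ⟨g, c1⟩)
  obtain ⟨S, hS, hx, hy, hw⟩ := syl x2 y2 (sq y2 (isConj_iff.2 ⟨g, c2⟩)) xy xw
    (by have := congrArg (fun u => g * u * g⁻¹) xy; simpa only [← conj_mul, c1, c2] using this)
  obtain ⟨ι, h⟩ := h.nf hS
  lift x to S using hx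
  lift y to S using hy
  lift w to S using hw
  obtain ⟨g', -, d⟩ := h.fw g trivial
  refine ⟨ι x, ι y, ι w, g', fun t => x1 (h.bw.one t), ?_, ?_, ?_, (d x y c1.symm).symm, (d y w c2.symm).symm, ?_⟩ <;>
    simp only [← map_mul]
  exacts [h.fw.one x2, h.fw.eq xy, h.fw.eq xw, (d w (x * y) c3.symm).symm]

end H73.FL
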