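import Cfsg.Agent.Lib.FLU.Defs

/-! # Elementary abelian subgroups of order eight in dimension four -/

set_option autoImplicit false

namespace H73.FL

open Subgroup Cfsg H69 Matrix
open Equiv (Perm)
open scoped MatrixGroups

namespace L4

section grp
variable {Γ : Type*} [Group Γ]

theorem lift_eq {a b : Γ} (h : (a : Γ ⧸ center Γ) = b) : ∃ c ∈ center Γ, b = a * c :=
  ⟨a⁻¹ * b, QuotientGroup.eq.1 h, by group⟩

/-- the configuration `X7` lifts through a central extension -/
theorem x7_lift (h : X7 (Γ ⧸ center Γ)) : ∃ X Y W G : Γ, X ∉ center Γ ∧ X * X = 1 ∧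
    X * Y = Y * X ∧ X * W = W * X ∧ G * X * G⁻¹ = Y ∧ G * Y * G⁻¹ = W ∧ G * W * G⁻¹ = X * Y := by
  obtain ⟨x, y, w, g, x1, xx, xy, xw, gx, gy, gw⟩ := h
  obtain ⟨X, rfl⟩ := QuotientGroup.mk_surjective x
  obtain ⟨G, rfl⟩ := QuotientGroup.mk_surjective g
  obtain ⟨Y, hY⟩ : ∃ Y, Y = G * X * G⁻¹ := ⟨_, rfl⟩
  obtain ⟨W, hW⟩ : ∃ W, W = G * Y * G⁻¹ := ⟨_, rfl⟩
  have ey : y = (Y : Γ ⧸ center Γ) := by rw [← gx, hY]; rfl
  subst ey
  have ew : w = (W : Γ ⧸ center Γ) := by rw [← gy, hW]; rfl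
  subst ew
  obtain ⟨l, hl, el⟩ := lift_eq (a := 1) (b := X * X) xx.symm
  obtain ⟨c, hc, ec⟩ := lift_eq (a := Y * X) (b := X * Y) xy.symm
  obtain ⟨d, hd, ed⟩ := lift_eq (a := W * X) (b := X * W) xw.symm
  obtain ⟨n, hn, en⟩ := lift_eq (a := X * Y) (b := G * W * G⁻¹) gw.symm
  rw [one_mul] at el
  have cm : ∀ {z}, z ∈ center Γ → ∀ a : Γ, z * a = a * z := fun hz a =>
    (Subgroup.mem_center_iff.1 hz a).symm
  have cj : ∀ {z}, z ∈ center Γ → ∀ a : Γ, G * (a * z) * G⁻¹ = G * a * G⁻¹ * z := by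
    intro z hz a
    rw [mul_assoc (G * a), ← cm hz G⁻¹]; group
  have cc : c * c = 1 := by
    have e1 : X * X * Y = Y * (X * X) * (c * c) := by
      calc X * X * Y = X * (Y * X * c) := by rw [mul_assoc, ec]
        _ = X * Y * X * c := by group
        _ = Y * X * (c * X) * c := by rw [ec]; group
        _ = Y * (X * X) * (c * c) := by rw [cm hc]; group
    rw [el, cm hl] at e1
    exact (mul_eq_left.1 e1.symm)
  have e2 : Y * W = W * Y * c := by
    calc Y * W = G * (X * Y) * G⁻¹ := by rw [hW, hY]; group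
      _ = G * (Y * X) * G⁻¹ * c := by rw [ec, cj hc]
      _ = W * Y * c := by rw [hW, hY]; group
  have e3 : W * (X * Y) = X * Y * W * c := by
    apply mul_right_cancel (b := n)
    calc W * (X * Y) * n = W * (G * W * G⁻¹) := by rw [en]; group
      _ = G * (Y * W) * G⁻¹ := by nth_rewrite 1 [hW]; group
      _ = G * (W * Y) * G⁻¹ * c := by rw [e2, cj hc]
      _ = G * W * G⁻¹ * W * c := by nth_rewrite 3 [hW]; group
      _ = X * Y * (n * (W * c)) := by rw [en]; group
      _ = X * Y * W * c * n := by rw [cm hn]; group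
  have d1 : d = 1 := by
    have e4 : X * Y * W = X * Y * W * (c * c) * d := by
      calc X * Y * W = X * (W * Y * c) := by rw [mul_assoc, e2]
        _ = X * W * Y * c := by group
        _ = W * X * (d * (Y * c)) := by rw [ed]; group
        _ = W * (X * Y) * c * d := by rw [cm hd]; group
        _ = X * Y * W * (c * c) * d := by rw [e3]; group
    rw [cc, mul_one] at e4
    exact mul_eq_left.1 e4.symm
  rw [d1, mul_one] at ed
  have e5 : X * Y = Y * X := by
    apply mul_right_cancel (b := Y * n)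
    calc X * Y * (Y * n) = X * Y * (n * Y) := by rw [cm hn]
      _ = G * W * G⁻¹ * Y := by rw [en]; group
      _ = G * (W * X) * G⁻¹ := by nth_rewrite 1 [hY]; group
      _ = G * (X * W) * G⁻¹ := by rw [ed]
      _ = Y * (G * W * G⁻¹) := by nth_rewrite 1 [hY]; group
      _ = Y * X * (Y * n) := by rw [en]; group
  have sq : ∀ a : Γ, a * a = l → G * a * G⁻¹ * (G * a * G⁻¹) = l := by
    intro a ha
    calc G * a * G⁻¹ * (G * a * G⁻¹) = G * (1 * (a * a)) * G⁻¹ := by group
      _ = l := by rw [ha, cj hl]; group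
  have y2 : Y * Y = l := hY ▸ sq X el
  have w2 : W * W = l := hW ▸ sq Y y2
  have e6 : l * (n * n) = 1 := by
    have e7 := sq W w2
    rw [en] at e7
    apply mul_left_cancel (a := l)
    calc l * (l * (n * n)) = X * X * (Y * Y * (n * n)) := by rw [el, y2]
      _ = X * (X * Y) * (Y * n) * n := by group
      _ = X * (Y * X) * (Y * n) * n := by rw [e5]
      _ = X * Y * (X * Y * n) * n := by group
      _ = X * Y * (n * (X * Y)) * n := by rw [cm hn]
      _ = X * Y * n * (X * Y * n) := by group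
      _ = l * 1 := by rw [e7, mul_one]
  have mv : ∀ a b : Γ, a * n * (b * n) = a * b * (n * n) := by
    intro a b
    calc a * n * (b * n) = a * (n * b) * n := by group
      _ = a * b * (n * n) := by rw [cm hn]; group
  refine ⟨X * n, Y * n, W * n, G, fun hx => x1 ?_, ?_, ?_, ?_, ?_, ?_, ?_⟩
  · exact (QuotientGroup.eq_one_iff X).2 ((mul_mem_cancel_right hn).1 hx)
  · rw [mv, el, e6]
  · rw [mv, mv, e5]
  · rw [mv, mv, ed]
  · rw [cj hn, hY]
  · rw [cj hn, hW]
  · rw [cj hn, en, mv, mul_assoc]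

theorem pe8_lift (h2 : ∀ c ∈ center Γ, c * c = 1) (h : PE8 (Γ ⧸ center Γ)) : ∃ X Y W : Γ,
    X * X = 1 ∧ Y * Y = 1 ∧ W * W = 1 ∧ X * Y = Y * X ∧ X * W = W * X ∧ Y * W = W * Y ∧
      ∀ A ∈ [X, Y, W, X * Y, X * W, Y * W, X * Y * W], A ∉ center Γ := by
  obtain ⟨x, y, w, x1, xx, xy, xw, yw, c1, c2, c3, c4, c5, c6⟩ := h
  obtain ⟨X, rfl⟩ := QuotientGroup.mk_surjective x
  obtain ⟨Y, rfl⟩ := QuotientGroup.mk_surjective y
  obtain ⟨W, rfl⟩ := QuotientGroup.mk_surjective w
  obtain ⟨l, hl, el⟩ := lift_eq (a := 1) (b := X * X) xx.symm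
  rw [one_mul] at el
  have cm : ∀ {z}, z ∈ center Γ → ∀ a : Γ, z * a = a * z := fun hz a =>
    (Subgroup.mem_center_iff.1 hz a).symm
  have key : ∀ A : Γ, IsConj (X : Γ ⧸ center Γ) A → A * A = l ∧ A ∉ center Γ := by
    intro A hA
    refine ⟨?_, fun hc => x1 ?_⟩
    · obtain ⟨g, hg⟩ := isConj_iff.1 hA
      obtain ⟨G, rfl⟩ := QuotientGroup.mk_surjective g
      obtain ⟨c, hc, ec⟩ := lift_eq (a := G * X * G⁻¹) (b := A) hg
      calc A * A = G * X * G⁻¹ * (c * (G * X * G⁻¹)) * c := by rw [ec]; group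
        _ = G * (X * X) * G⁻¹ * (c * c) := by rw [cm hc]; group
        _ = l := by rw [h2 c hc, el, ← cm hl]; group
    · rw [(QuotientGroup.eq_one_iff A).2 hc] at hA
      exact isConj_one_left.1 hA
  have pair : ∀ A B : Γ, A * A = l → B * B = l → A * B * (A * B) = l → A * B = B * A * l := by
    intro A B hA hB hAB
    apply mul_left_cancel (a := A)
    apply mul_right_cancel (b := B)
    calc A * (A * B) * B = A * A * (B * B) := by group
      _ = l * l := by rw [hA, hB]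
      _ = 1 := h2 l hl
      _ = A * B * (A * B) * l := by rw [hAB, h2 l hl]
      _ = A * B * A * (B * l) := by group
      _ = A * (B * A * l) * B := by rw [← cm hl]; group
  have kx : X * X = l ∧ X ∉ center Γ := key X (IsConj.refl _)
  have ky := key Y c1
  have kw := key W c2
  have kxy := key (X * Y) c3
  have kxw := key (X * W) c4
  have kyw := key (Y * W) c5
  have kxyw := key (X * Y * W) c6
  have p1 := pair X Y kx.1 ky.1 kxy.1
  have p2 := pair X W kx.1 kw.1 kxw.1
  have p3 := pair Y W ky.1 kw.1 kyw.1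
  have p4 := pair X (Y * W) kx.1 kyw.1 (by rw [← mul_assoc X Y W]; exact kxyw.1)
  have l1 : l = 1 := by
    have e1 : Y * W * X * l = Y * W * X := by
      calc Y * W * X * l = X * Y * W := by rw [← p4, mul_assoc]
        _ = Y * X * (l * W) := by rw [p1]; group
        _ = Y * (X * W) * l := by rw [cm hl]; group
        _ = Y * W * X * (l * l) := by rw [p2]; group
        _ = Y * W * X := by rw [h2 l hl, mul_one]
    exact mul_eq_left.1 e1
  subst l1
  rw [mul_one] at p1 p2 p3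
  refine ⟨X, Y, W, kx.1, ky.1, kw.1, p1, p2, p3, ?_⟩
  simp only [List.mem_cons, List.not_mem_nil, or_false, forall_eq_or_imp, forall_eq]
  exact ⟨kx.2, ky.2, kw.2, kxy.2, kxw.2, kyw.2, kxyw.2⟩

end grp

section mat
variable {K : Type*} [Field K]

theorem tr0 (h2 : (2 : K) ≠ 0) {A : SL(4, K)} (hA : A * A = 1) (hc : A ∉ center SL(4, K)) :
    (A : Matrix (Fin 4) (Fin 4) K).trace = 0 := by
  by_contra ht
  apply hc
  obtain ⟨M, hM⟩ := A
  have h1 : M * M = 1 := congrArg Subtype.val hA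
  have hi : M⁻¹ = M := inv_eq_right_inv h1
  have h3 := charpoly_inv M (IsUnit.of_mul_eq_one M h1)
  rw [hi, hM] at h3
  have c1 : M.charpoly.coeff 1 = -M.trace := by
    rw [h3]
    simp [show ((-1 : Polynomial K)) ^ 4 = 1 by ring]
  have c3 : M.charpoly.coeff 3 = -M.trace := by
    rw [trace_eq_neg_charpoly_coeff, neg_neg]; rfl
  have h4 := aeval_self_charpoly M
  rw [Polynomial.aeval_eq_sum_range, charpoly_natDegree_eq_dim, Fintype.card_fin] at h4
  simp only [Finset.sum_range_succ, Finset.sum_range_zero, zero_add, pow_succ, pow_zero, one_mul,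
    h1, c1, c3] at h4
  have h5 : M = ((2 * M.trace)⁻¹ * (M.charpoly.coeff 0 + M.charpoly.coeff 2 +
      M.charpoly.coeff 4)) • (1 : Matrix (Fin 4) (Fin 4) K) := by
    have h6 : (2 * M.trace) • M = (M.charpoly.coeff 0 + M.charpoly.coeff 2 +
        M.charpoly.coeff 4) • (1 : Matrix (Fin 4) (Fin 4) K) := by
      rw [← sub_eq_zero, ← neg_eq_zero, ← h4]
      module
    rw [mul_smul, ← h6, smul_smul, inv_mul_cancel₀ (mul_ne_zero h2 ht), one_smul]
  refine Subgroup.mem_center_iff.2 fun B => Subtype.ext ?_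
  change (B : Matrix (Fin 4) (Fin 4) K) * M = M * B
  rw [h5, Matrix.mul_smul, Matrix.smul_mul, Matrix.mul_one, Matrix.one_mul]

theorem r16 (h2 : (2 : K) ≠ 0) {X Y W : SL(4, K)} (xx : X * X = 1) (yy : Y * Y = 1)
    (ww : W * W = 1) (xy : X * Y = Y * X) (xw : X * W = W * X) (yw : Y * W = W * Y)
    (h : ∀ A ∈ [X, Y, W, X * Y, X * W, Y * W, X * Y * W], A ∉ center SL(4, K)) : False := by
  simp only [List.mem_cons, List.not_mem_nil, or_false, forall_eq_or_imp, forall_eq] at h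
  obtain ⟨n1, n2, n3, n4, n5, n6, n7⟩ := h
  have sq : ∀ {A B : SL(4, K)}, A * A = 1 → B * B = 1 → A * B = B * A → A * B * (A * B) = 1 := by
    intro A B hA hB hAB
    calc A * B * (A * B) = A * (B * A) * B := by group
      _ = A * A * (B * B) := by rw [← hAB]; group
      _ = 1 := by rw [hA, hB, one_mul]
  have t1 := tr0 h2 xx n1
  have t2 := tr0 h2 yy n2
  have t3 := tr0 h2 ww n3
  have t4 := tr0 h2 (sq xx yy xy) n4
  have t5 := tr0 h2 (sq xx ww xw) n5
  have t6 := tr0 h2 (sq yy ww yw) n6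
  have t7 := tr0 h2 (sq (sq xx yy xy) ww (Commute.mul_left xw yw)) n7
  have xx' : (X : Matrix (Fin 4) (Fin 4) K) * X = 1 := congrArg Subtype.val xx
  have yy' : (Y : Matrix (Fin 4) (Fin 4) K) * Y = 1 := congrArg Subtype.val yy
  have ww' : (W : Matrix (Fin 4) (Fin 4) K) * W = 1 := congrArg Subtype.val ww
  have xy' : Commute (X : Matrix (Fin 4) (Fin 4) K) Y := congrArg Subtype.val xy
  have xw' : Commute (X : Matrix (Fin 4) (Fin 4) K) W := congrArg Subtype.val xw
  have yw' : Commute (Y : Matrix (Fin 4) (Fin 4) K) W := congrArg Subtype.val yw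
  simp only [Matrix.SpecialLinearGroup.coe_mul] at t4 t5 t6 t7
  generalize (X : Matrix (Fin 4) (Fin 4) K) = x at *
  generalize (Y : Matrix (Fin 4) (Fin 4) K) = y at *
  generalize (W : Matrix (Fin 4) (Fin 4) K) = w at *
  let p : Matrix (Fin 4) (Fin 4) K → Bool → Matrix (Fin 4) (Fin 4) K :=
    fun a s => bif s then 1 + a else 1 - a
  have pc : ∀ {a b : Matrix (Fin 4) (Fin 4) K}, Commute a b → ∀ s t, Commute (p a s) (p b t) := by
    intro a b hab s t
    have e1 : ∀ c : Matrix (Fin 4) (Fin 4) K, Commute a c → Commute (p a s) c := by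
      intro c hc
      cases s
      · exact (Commute.one_left c).sub_left hc
      · exact (Commute.one_left c).add_left hc
    apply e1
    cases t
    · exact (Commute.one_right a).sub_right hab
    · exact (Commute.one_right a).add_right hab
  have pp : ∀ {a : Matrix (Fin 4) (Fin 4) K}, a * a = 1 → ∀ s t,
      p a s * p a t = (if s = t then (2 : K) else 0) • p a t := by
    intro a ha s t
    cases s <;> cases t <;>
      simp [p, mul_add, add_mul, mul_sub, sub_mul, ha, two_smul] <;> abel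
  let E : Bool × Bool × Bool → Matrix (Fin 4) (Fin 4) K :=
    fun s => p x s.1 * p y s.2.1 * p w s.2.2
  have EE : ∀ s t, E s * E t = (if s = t then (8 : K) else 0) • E t := by
    rintro ⟨s1, s2, s3⟩ ⟨t1, t2, t3⟩
    have e1 : E (s1, s2, s3) * E (t1, t2, t3) =
        (p x s1 * p x t1) * (p y s2 * p y t2) * (p w s3 * p w t3) := by
      simp only [E]
      rw [((pc xw' t1 s3).mul_left (pc yw' t2 s3)).symm.mul_mul_mul_comm,
        (pc xy' t1 s2).symm.mul_mul_mul_comm]
    rw [e1, pp xx', pp yy', pp ww']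
    simp only [Matrix.smul_mul, Matrix.mul_smul, smul_smul, E, Prod.mk.injEq]
    congr 1
    by_cases a1 : s1 = t1 <;> by_cases a2 : s2 = t2 <;> by_cases a3 : s3 = t3 <;>
      simp [a1, a2, a3]
    norm_num
  have h4 : (4 : K) ≠ 0 := by
    rw [show (4 : K) = 2 * 2 by norm_num]; exact mul_ne_zero h2 h2
  have h8 : (8 : K) ≠ 0 := by
    rw [show (8 : K) = 2 * 4 by norm_num]; exact mul_ne_zero h2 h4
  have E0 : ∀ s, ∃ u : Fin 4 → K, (E s).mulVec u ≠ 0 := by
    intro s
    by_contra hn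
    push Not at hn
    have e1 : E s = 0 := toLin'.injective (LinearMap.ext fun v => by
      rw [toLin'_apply, hn, map_zero, LinearMap.zero_apply])
    have e2 : (E s).trace = 4 := by
      obtain ⟨s1, s2, s3⟩ := s
      cases s1 <;> cases s2 <;> cases s3 <;>
        simp [E, p, mul_add, add_mul, mul_sub, sub_mul, t1, t2, t3, t4, t5, t6, t7]
    rw [e1, trace_zero] at e2
    exact h4 e2.symm
  choose u hu using E0
  have li : LinearIndependent K fun s => (E s).mulVec (u s) := by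
    rw [Fintype.linearIndependent_iff]
    intro c hc s
    have e1 := congrArg (E s).mulVec hc
    rw [mulVec_sum, mulVec_zero, Finset.sum_eq_single s, mulVec_smul, mulVec_mulVec, EE, if_pos rfl,
      smul_mulVec, smul_smul] at e1
    · exact (mul_eq_zero.1 ((smul_eq_zero.1 e1).resolve_right (hu s))).resolve_right h8
    · intro t _ hts
      rw [mulVec_smul, mulVec_mulVec, EE, if_neg hts.symm, zero_smul, zero_mulVec, smul_zero]
    · simp
  have := li.fintype_card_le_finrank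
  simp at this

theorem cj_of {Z A : SL(4, K)} (hZ : Z.1 = !![1, 0, 0, 0; 0, 1, 0, 0; 0, 0, -1, 0; 0, 0, 0, -1])
    (c p0 p1 q0 q1 r0 r1 t0 t1 : K) (hc : c ^ 4 = 1) (h1 : p0 * q1 - p1 * q0 ≠ 0)
    (h2 : r0 * t1 - r1 * t0 ≠ 0)
    (h : c • A.1 * !![p0, 0, q0, 0; p1, 0, q1, 0; 0, r0, 0, t0; 0, r1, 0, t1] =
      !![p0, 0, -q0, 0; p1, 0, -q1, 0; 0, r0, 0, -t0; 0, r1, 0, -t1]) :
    IsConj (Z : PSL(4, K)) A := by
  obtain ⟨d, hd⟩ : ∃ d, d = (-((p0 * q1 - p1 * q0) * (r0 * t1 - r1 * t0)))⁻¹ := ⟨_, rfl⟩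
  have hd' : d * (-((p0 * q1 - p1 * q0) * (r0 * t1 - r1 * t0))) = 1 := by
    rw [hd]; exact inv_mul_cancel₀ (neg_ne_zero.2 (mul_ne_zero h1 h2))
  let P : SL(4, K) := ⟨!![p0, 0, q0, 0; p1, 0, q1, 0; 0, r0, 0, t0; 0, r1, 0, t1] *
      !![d, 0, 0, 0; 0, 1, 0, 0; 0, 0, 1, 0; 0, 0, 0, 1], by
    rw [det_mul]
    simp [det_succ_row_zero, Fin.sum_univ_succ, Fin.succAbove]
    linear_combination hd'⟩
  let C : SL(4, K) := ⟨scalar _ c, by simp [hc]⟩
  have hC : (C : PSL(4, K)) = 1 := (QuotientGroup.eq_one_iff C).2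
    (Matrix.SpecialLinearGroup.mem_center_iff.2 ⟨c, by simpa using hc, rfl⟩)
  have e : P * Z = C * A * P := by
    apply Subtype.ext
    change P.1 * Z.1 = C.1 * A.1 * P.1
    simp only [P, C, hZ]
    rw [scalar_apply, ← smul_eq_diagonal_mul, ← Matrix.mul_assoc, h]
    simp
  refine isConj_iff.2 ⟨(P : PSL(4, K)), ?_⟩
  rw [← QuotientGroup.mk_mul, e, QuotientGroup.mk_mul, QuotientGroup.mk_mul, hC, one_mul,
    mul_inv_cancel_right]

end mat

end L4

open L4

variable {F : Type*} [Field F] [Finite F]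

theorem L4.two_ne (h : Odd (Nat.card F)) : (2 : F) ≠ 0 := by
  haveI := Fintype.ofFinite F
  apply Ring.two_ne_zero
  intro h2
  rw [FiniteField.even_card_iff_char_two, ← Nat.card_eq_fintype_card] at h2
  obtain ⟨k, hk⟩ := h
  omega

theorem not_x7 (h : Odd (Nat.card F)) : ¬ X7 PSL(4, F) := by
  intro hx
  obtain ⟨X, Y, W, G, x1, xx, xy, xw, gx, gy, gw⟩ := x7_lift hx
  have sq : ∀ a : SL(4, F), a * a = 1 → G * a * G⁻¹ * (G * a * G⁻¹) = 1 := by
    intro a ha
    calc G * a * G⁻¹ * (G * a * G⁻¹) = G * (a * a) * G⁻¹ := by group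
      _ = 1 := by rw [ha]; group
  have nc : ∀ a : SL(4, F), a ∉ center SL(4, F) → G * a * G⁻¹ ∉ center SL(4, F) := by
    intro a ha hc
    apply ha
    have := (inferInstance : (center SL(4, F)).Normal).conj_mem _ hc G⁻¹
    simpa [mul_assoc] using this
  have cm : ∀ a b : SL(4, F), G * (a * b) * G⁻¹ = G * a * G⁻¹ * (G * b * G⁻¹) := by
    intro a b; group
  have yy : Y * Y = 1 := gx ▸ sq X xx
  have ww : W * W = 1 := gy ▸ sq Y yy
  have yw : Y * W = W * Y := by
    calc Y * W = G * (X * Y) * G⁻¹ := by rw [cm, gx, gy]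
      _ = W * Y := by rw [xy, cm, gx, gy]
  have n2 : Y ∉ center SL(4, F) := gx ▸ nc X x1
  have n3 : W ∉ center SL(4, F) := gy ▸ nc Y n2
  have n4 : X * Y ∉ center SL(4, F) := gw ▸ nc W n3
  have n5 : Y * W ∉ center SL(4, F) := by
    have := nc _ n4
    rwa [cm, gx, gy] at this
  have n6 : X * Y * W ∉ center SL(4, F) := by
    have := nc _ n5
    rwa [cm, gy, gw, (Commute.mul_left xw yw).symm.eq] at this
  have n7 : X * W ∉ center SL(4, F) := by
    have := nc _ n6
    rw [cm, cm, gx, gy, gw] at this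
    have e : X * W = Y * W * (X * Y) := by
      calc X * W = (Y * Y) * (X * W) := by rw [yy, one_mul]
        _ = Y * (Y * X) * W := by group
        _ = Y * (X * Y) * W := by rw [xy]
        _ = Y * X * (Y * W) := by group
        _ = Y * (X * W) * Y := by rw [yw]; group
        _ = Y * W * (X * Y) := by rw [xw]; group
    rwa [e]
  refine r16 (two_ne h) xx yy ww xy xw yw ?_
  simp only [List.mem_cons, List.not_mem_nil, or_false, forall_eq_or_imp, forall_eq]
  exact ⟨x1, n2, n3, n4, n7, n5, n6⟩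

theorem not_pe8 (h : Nat.card F % 4 = 3) : ¬ PE8 PSL(4, F) := by
  intro hx
  haveI := Fintype.ofFinite F
  obtain ⟨X, Y, W, xx, yy, ww, xy, xw, yw, hn⟩ := pe8_lift (Γ := SL(4, F)) (by
    intro c hc
    obtain ⟨r, hr, e⟩ := Matrix.SpecialLinearGroup.mem_center_iff.1 hc
    rw [Fintype.card_fin] at hr
    have h1 : r * r = 1 := by
      have h2 : (r * r - 1) * (r * r + 1) = 0 := by linear_combination hr
      rcases mul_eq_zero.1 h2 with h3 | h3
      · exact sub_eq_zero.1 h3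
      · exact absurd (by rw [← Nat.card_eq_fintype_card, h])
          (FiniteField.isSquare_neg_one_iff.1 ⟨r, by linear_combination -h3⟩)
    apply Subtype.ext
    rw [Matrix.SpecialLinearGroup.coe_mul, ← e, ← map_mul, h1, map_one]
    rfl) hx
  exact r16 (two_ne (Nat.odd_iff.2 (by omega))) xx yy ww xy xw yw hn

theorem pe8 (h : Nat.card F % 4 = 1) : PE8 PSL(4, F) := by
  haveI := Fintype.ofFinite F
  have h2 := two_ne (F := F) (Nat.odd_iff.2 (by omega))
  obtain ⟨i, hi⟩ : IsSquare (-1 : F) :=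
    FiniteField.isSquare_neg_one_iff.2 (by rw [← Nat.card_eq_fintype_card, h]; norm_num)
  have i0 : i ≠ 0 := by rintro rfl; simp at hi
  have i4 : i ^ 4 = 1 := by linear_combination (1 - i * i) * hi
  have ii : i * i = -1 := hi.symm
  have m2 : (-1 - 1 : F) ≠ 0 := fun e => h2 (by linear_combination -e)
  have p2 : (1 + 1 : F) ≠ 0 := fun e => h2 (by linear_combination e)
  obtain ⟨X, hX⟩ : ∃ X : SL(4, F), X.1 = !![1, 0, 0, 0; 0, 1, 0, 0; 0, 0, -1, 0; 0, 0, 0, -1] :=
    ⟨⟨_, by simp [det_succ_row_zero, Fin.sum_univ_succ, Fin.succAbove]⟩, rfl⟩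
  obtain ⟨Y, hY⟩ : ∃ X : SL(4, F), X.1 = !![1, 0, 0, 0; 0, -1, 0, 0; 0, 0, 1, 0; 0, 0, 0, -1] :=
    ⟨⟨_, by simp [det_succ_row_zero, Fin.sum_univ_succ, Fin.succAbove]⟩, rfl⟩
  obtain ⟨W, hW⟩ : ∃ X : SL(4, F), X.1 = !![0, 1, 0, 0; 1, 0, 0, 0; 0, 0, 0, 1; 0, 0, 1, 0] :=
    ⟨⟨_, by simp [det_succ_row_zero, Fin.sum_univ_succ, Fin.succAbove]⟩, rfl⟩
  have up : ∀ A B : SL(4, F), A = B → (A : PSL(4, F)) = B := fun A B e => by rw [e]
  refine ⟨X, Y, W, fun e => ?_, up (X * X) 1 ?_, up (X * Y) (Y * X) ?_, up (X * W) (W * X) ?_,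
    QuotientGroup.eq.2 (show (Y * W)⁻¹ * (W * Y) ∈ center SL(4, F) from ?_),
    ?_, ?_, show IsConj _ ((X * Y : SL(4, F)) : PSL(4, F)) from ?_,
    show IsConj _ ((X * W : SL(4, F)) : PSL(4, F)) from ?_,
    show IsConj _ ((Y * W : SL(4, F)) : PSL(4, F)) from ?_,
    show IsConj _ ((X * Y * W : SL(4, F)) : PSL(4, F)) from ?_⟩
  · obtain ⟨r, -, e1⟩ := Matrix.SpecialLinearGroup.mem_center_iff.1 ((QuotientGroup.eq_one_iff X).1 e)
    rw [hX] at e1
    have a0 := congrFun (congrFun e1 0) 0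
    have a2 := congrFun (congrFun e1 2) 2
    simp at a0 a2
    exact h2 (by linear_combination a2 - a0)
  · apply Subtype.ext
    simp only [Matrix.SpecialLinearGroup.coe_mul, hX, Matrix.SpecialLinearGroup.coe_one]
    ext a b
    fin_cases a <;> fin_cases b <;> simp
  · apply Subtype.ext
    simp [hX, hY]
  · apply Subtype.ext
    simp [hX, hW]
  · haveI : Fact (Even (Fintype.card (Fin 4))) := ⟨by simp; decide⟩
    have e : W * Y = Y * W * (-1) := by
      apply Subtype.ext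
      simp [hY, hW]
    rw [e, inv_mul_cancel_left]
    exact Subgroup.mem_center_iff.2 fun B => by simp
  · exact cj_of hX 1 1 0 0 1 1 0 0 1 (by simp) (by simp) (by simp) (by simp [hY])
  · exact cj_of hX 1 1 1 1 (-1) 1 1 1 (-1) (by simp) (by simpa using m2) (by simpa using m2)
      (by simp [hW])
  · exact cj_of hX 1 1 0 0 1 0 1 1 0 (by simp) (by simp) (by simp) (by simp [hX, hY])
  · exact cj_of hX 1 1 1 1 (-1) 1 (-1) 1 1 (by simp) (by simpa using m2) (by simpa using p2)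
      (by simp [hX, hW])
  · exact cj_of hX i 1 (-i) 1 i 1 (-i) 1 i i4 (by simpa [← two_mul] using ⟨h2, i0⟩)
      (by simpa [← two_mul] using ⟨h2, i0⟩) (by simp [hY, hW, ii])
  · exact cj_of hX i 1 (-i) 1 i 1 i 1 (-i) i4 (by simpa [← two_mul] using ⟨h2, i0⟩)
      (fun e => mul_ne_zero h2 i0 (by linear_combination -e)) (by simp [hX, hY, hW, ii])

end H73.FL
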