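import Cfsg.Agent.Lib.FLU.Defs

/-! # Monomial matrices -/

set_option autoImplicit false

namespace H73.FL

open Subgroup Cfsg H69 Matrix
open Equiv (Perm)
open scoped MatrixGroups

variable {ι C K K' : Type*} [Fintype ι] [DecidableEq ι] [CommGroup C] [Field K] [Field K']
  {χ : C →* Kˣ} {χ' : C →* K'ˣ}

theorem rho_inj (h : Function.Injective χ) : Function.Injective (rho (ι := ι) χ) := by
  refine (injective_iff_map_eq_one _).2 fun x e => ?_
  have k : ∀ j, x.right j = j ∧ x.left (x.right j) = 1 := fun j => by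
    have h1 := rho_apply χ x (x.right j) j
    rw [e, if_pos rfl, Units.val_one, one_apply] at h1
    split_ifs at h1 with h2
    · exact ⟨h2, h (Units.ext (by rw [← h1, map_one, Units.val_one]))⟩
    · exact absurd h1.symm (Units.ne_zero _)
  exact SemidirectProduct.ext (funext fun j => by simpa [(k j).1] using (k j).2)
    (Equiv.ext fun j => (k j).1)

theorem det_rho (x : Mo ι C) : GeneralLinearGroup.det (rho χ x) =
    χ (∏ i, x.left i) * Units.map (Int.castRingHom K : ℤ →* K) (Perm.sign x.right) := by
  apply Units.ext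
  have e : (rho χ x : Matrix ι ι K) =
      diagonal (fun i => (χ (x.left i) : K)) * (x.right⁻¹).permMatrix K := by
    ext i j
    rw [rho_apply, diagonal_mul]
    simp [Equiv.Perm.permMatrix, PEquiv.toMatrix_apply, Equiv.symm_apply_eq]
  rw [GeneralLinearGroup.val_det_apply, e, det_mul, det_diagonal, det_permutation, Perm.sign_inv]
  simp

theorem rho_SK (h : Function.Injective χ) (h' : Function.Injective χ') (t : (2 : K) ≠ 0)
    (t' : (2 : K') ≠ 0) {x : Mo ι C} (e : rho χ x ∈ SK ι K) : rho χ' x ∈ SK ι K' := by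
  rw [MonoidHom.mem_ker, det_rho] at e ⊢
  generalize ∏ i, x.left i = T at e ⊢
  rcases Int.units_eq_one_or (Perm.sign x.right) with s | s <;> rw [s] at e ⊢
  · rw [map_one, mul_one] at e ⊢
    rw [h (e.trans (map_one χ).symm), map_one]
  · have e1 : (χ T : K) = -1 := by
      have := congrArg Units.val e
      simpa [neg_eq_iff_eq_neg] using this
    have e2 : T * T = 1 := h (Units.ext (by rw [map_mul, Units.val_mul, e1]; simp))
    have e3 : T ≠ 1 := fun e => t (by
      rw [e, map_one, Units.val_one] at e1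
      linear_combination e1)
    have e4 : (χ' T : K') * χ' T = 1 := by rw [← Units.val_mul, ← map_mul, e2, map_one, Units.val_one]
    rcases mul_self_eq_one_iff.1 e4 with e5 | e5
    · exact absurd (h' (Units.ext (by rw [e5, map_one, Units.val_one]))) e3
    · exact Units.ext (by simp [e5])

theorem rho_scalar (h : Function.Injective χ) {x : Mo ι C} :
    (∃ c : K, (rho χ x : Matrix ι ι K) = c • (1 : Matrix ι ι K)) ↔
      x.right = 1 ∧ ∀ i j, x.left i = x.left j := by
  constructor
  · rintro ⟨c, e⟩
    have k : ∀ j, x.right j = j ∧ (χ (x.left (x.right j)) : K) = c := fun j => by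
      have h1 := rho_apply χ x (x.right j) j
      rw [e, if_pos rfl, Matrix.smul_apply, one_apply] at h1
      split_ifs at h1 with h2
      · exact ⟨h2, by rw [← h1, smul_eq_mul, mul_one]⟩
      · exact absurd h1.symm (by simp)
    refine ⟨Equiv.ext fun j => (k j).1, fun i j => h (Units.ext ?_)⟩
    rw [← (k i).1, ← (k j).1, (k i).2, (k j).2]
  · rintro ⟨h1, h2⟩
    rcases isEmpty_or_nonempty ι with _ | ⟨⟨i0⟩⟩
    · exact ⟨0, Subsingleton.elim _ _⟩
    refine ⟨χ (x.left i0), ?_⟩
    ext i j
    rw [rho_apply, h1, h2 i i0, Matrix.smul_apply, one_apply, smul_eq_mul, mul_ite, mul_one, mul_zero]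
    rfl

/-- a diagonal matrix of given determinant of odd order that commutes with `WW` -/
theorem exists_dg {n : ℕ} (h2 : 2 ≤ n) (h5 : n ≤ 5) {l : Kˣ} (h : Odd (orderOf l)) :
    ∃ d : Fin n → Kˣ, (∀ i, d i ∈ zpowers l) ∧
      (∀ p : Perm (Fin n), p * w0 n = w0 n * p → ∀ i, d (p i) = d i) ∧ l * ∏ i, d i = 1 := by
  have ev : ∀ k, n = 2 ^ k → ∃ d : Fin n → Kˣ, (∀ i, d i ∈ zpowers l) ∧
      (∀ p : Perm (Fin n), p * w0 n = w0 n * p → ∀ i, d (p i) = d i) ∧ l * ∏ i, d i = 1 := by
    rintro k rfl
    obtain ⟨m, hm⟩ := exists_pow_eq_self_of_coprime (x := l) (n := 2 ^ k)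
      (Nat.Coprime.pow_left k ((Nat.coprime_two_left).2 h))
    refine ⟨fun _ => (l ^ m)⁻¹, fun _ => inv_mem (pow_mem (mem_zpowers l) m), fun _ _ _ => rfl, ?_⟩
    rw [Finset.prod_const, Finset.card_univ, Fintype.card_fin, inv_pow, ← pow_mul, mul_comm m,
      pow_mul, hm, mul_inv_cancel]
  have od : (Finset.univ.filter fun i => w0 n i = i).card = 1 → ∃ d : Fin n → Kˣ,
      (∀ i, d i ∈ zpowers l) ∧
      (∀ p : Perm (Fin n), p * w0 n = w0 n * p → ∀ i, d (p i) = d i) ∧ l * ∏ i, d i = 1 := by
    intro e
    refine ⟨fun i => if w0 n i = i then l⁻¹ else 1, fun i => ?_, fun p hp i => ?_, ?_⟩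
    · dsimp only
      split_ifs
      exacts [inv_mem (mem_zpowers l), one_mem _]
    · have : w0 n (p i) = p (w0 n i) := (DFunLike.congr_fun hp i).symm
      simp only [this, EmbeddingLike.apply_eq_iff_eq]
    · rw [← Finset.prod_filter, Finset.prod_const, e, pow_one, mul_inv_cancel]
  interval_cases n
  exacts [ev 1 rfl, od (by decide), ev 2 rfl, od (by decide)]

namespace MON

open MulAction in
theorem rank_cocycle {P Ω : Type*} [Group P] [MulAction P Ω] [Finite Ω]
    (h : Function.Injective χ) (c : P → Ω → C)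
    (hc : ∀ x y ω, c (x * y) ω = c x (y • ω) * c y ω) (V : Submodule K (Ω → K))
    (hV : ∀ v, v ∈ V ↔ ∀ x ω, v (x • ω) = χ (c x ω) * v ω) :
    Module.finrank K V =
      Nat.card {o : orbitRel.Quotient P Ω // ∀ x : P, x • o.out = o.out → c x o.out = 1} := by
  classical
  let G := {o : orbitRel.Quotient P Ω // ∀ x : P, x • o.out = o.out → c x o.out = 1}
  letI := Fintype.ofFinite G
  have hg : ∀ ω : Ω, ∃ g : P, g • (Quotient.mk'' ω : orbitRel.Quotient P Ω).out = ω := fun ω =>
    (orbitRel P Ω).symm (Quotient.mk_out' ω)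
  choose g hg using hg
  let φ : V →ₗ[K] G → K :=
    { toFun := fun v o => v.1 o.1.out
      map_add' := fun _ _ => rfl
      map_smul' := fun _ _ => rfl }
  have hφ : Function.Bijective φ := by
    refine ⟨(injective_iff_map_eq_zero _).2 fun v e => Subtype.ext (funext fun ω => ?_), fun u => ?_⟩
    · rw [← hg ω, (hV _).1 v.2]
      refine mul_eq_zero_of_right _ ?_
      generalize (Quotient.mk'' ω : orbitRel.Quotient P Ω) = o
      by_cases ho : ∀ x : P, x • o.out = o.out → c x o.out = 1
      · exact congrFun e ⟨o, ho⟩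
      push Not at ho
      obtain ⟨x, h1, h2⟩ := ho
      have h3 := (hV _).1 v.2 x o.out
      rw [h1] at h3
      by_contra h4
      exact h2 (h (Units.ext (by
        rw [map_one, Units.val_one]; exact ((mul_eq_right₀ h4).1 h3.symm))))
    · let u' : orbitRel.Quotient P Ω → K := fun o =>
        if ho : ∀ x : P, x • o.out = o.out → c x o.out = 1 then u ⟨o, ho⟩ else 0
      refine ⟨⟨fun ω => χ (c (g ω) (Quotient.mk'' ω : orbitRel.Quotient P Ω).out) *
        u' (Quotient.mk'' ω), (hV _).2 fun x ω => ?_⟩, funext fun o => ?_⟩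
      · have h1 := hg (x • ω)
        have h2 := hg ω
        have h3 : (Quotient.mk'' (x • ω) : orbitRel.Quotient P Ω) = Quotient.mk'' ω :=
          Quotient.sound' ⟨x, rfl⟩
        rw [h3] at h1 ⊢
        generalize (Quotient.mk'' ω : orbitRel.Quotient P Ω) = o at h1 h2 ⊢
        by_cases ho : ∀ x : P, x • o.out = o.out → c x o.out = 1
        · have h4 : ((x * g ω)⁻¹ * g (x • ω)) • o.out = o.out := by
            rw [mul_smul, h1, inv_smul_eq_iff, mul_smul, h2]
          have h5 := hc (x * g ω) ((x * g ω)⁻¹ * g (x • ω)) o.out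
          rw [mul_inv_cancel_left, ho _ h4, mul_one, h4, hc, h2] at h5
          rw [h5, map_mul, Units.val_mul, mul_assoc]
        · simp only [u', dif_neg ho, mul_zero]
      · have h1 := hg o.1.out
        show (χ (c (g o.1.out) (Quotient.mk'' o.1.out : orbitRel.Quotient P Ω).out) : K) *
          u' (Quotient.mk'' o.1.out) = u o
        rw [Quotient.out_eq'] at h1 ⊢
        rw [o.2 _ h1, map_one, Units.val_one, one_mul]
        exact dif_pos o.2
  rw [(LinearEquiv.ofBijective φ hφ).finrank_eq, Module.finrank_fintype_fun_eq_card,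
    Nat.card_eq_fintype_card]

/-- the action on the positions -/
abbrev act {P : Type*} [Group P] (α β : P →* Mo ι C) : MulAction P (ι × ι) where
  smul x ω := ((β x).right ω.1, (α x).right ω.2)
  one_smul ω := by
    show ((β 1).right ω.1, (α 1).right ω.2) = ω
    simp
  mul_smul x y ω := by
    show ((β (x * y)).right ω.1, (α (x * y)).right ω.2) =
      ((β x).right ((β y).right ω.1), (α x).right ((α y).right ω.2))
    simp

theorem rank_eq (h : Function.Injective χ) {P : Type*} [Group P] (α β : P →* Mo ι C) :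
    Module.finrank K (HomSp ((rho χ).comp α) ((rho χ).comp β)) =
      Nat.card {o : @MulAction.orbitRel.Quotient P (ι × ι) _ (act α β) // ∀ x : P,
        ((β x).right o.out.1, (α x).right o.out.2) = o.out →
        (β x).left ((β x).right o.out.1) / (α x).left ((α x).right o.out.2) = 1} := by
  letI := act α β
  let e : Matrix ι ι K ≃ₗ[K] (ι × ι → K) :=
    { toFun := fun X ω => X ω.1 ω.2
      invFun := fun v => Matrix.of fun i j => v (i, j)
      map_add' := fun _ _ => rfl
      map_smul' := fun _ _ => rfl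
      left_inv := fun _ => rfl
      right_inv := fun _ => rfl }
  rw [← e.finrank_map_eq]
  refine rank_cocycle h
    (fun x (ω : ι × ι) => (β x).left ((β x).right ω.1) / (α x).left ((α x).right ω.2)) (fun x y ω => ?_) _
    fun v => ?_
  · show _ = (β x).left ((β x).right ((β y).right ω.1)) /
      (α x).left ((α x).right ((α y).right ω.2)) * _
    simp only [map_mul, Mo.mul_left, SemidirectProduct.mul_right, Perm.mul_apply,
      Perm.coe_inv, Equiv.symm_apply_apply, mul_div_mul_comm]
  rw [Submodule.mem_map_equiv]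
  refine forall_congr' fun x => ?_
  have k1 : ∀ i l, ((rho χ (β x) : Matrix ι ι K) * e.symm v) ((β x).right i) l =
      χ ((β x).left ((β x).right i)) * v (i, l) := fun i l => by
    rw [mul_apply, Finset.sum_eq_single i (fun j _ hj => by simp [rho_apply, hj.symm]) (by simp),
      rho_apply, if_pos rfl]
    rfl
  have k2 : ∀ i l, (e.symm v * (rho χ (α x) : Matrix ι ι K)) i l =
      v (i, (α x).right l) * χ ((α x).left ((α x).right l)) := fun i l => by
    rw [mul_apply, Finset.sum_eq_single ((α x).right l) (fun j _ hj => by simp [rho_apply, hj])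
      (by simp), rho_apply, if_pos rfl]
    rfl
  have k3 : ∀ ω : ι × ι, (((rho χ (β x) : Matrix ι ι K) * e.symm v) ((β x).right ω.1) ω.2 =
      (e.symm v * (rho χ (α x) : Matrix ι ι K)) ((β x).right ω.1) ω.2) ↔
      v (x • ω) = χ ((β x).left ((β x).right ω.1) / (α x).left ((α x).right ω.2)) * v ω :=
    fun ω => by
      rw [k1, k2, map_div, Units.val_div_eq_div_val, div_mul_eq_mul_div,
        eq_div_iff (Units.ne_zero _), eq_comm]
      rfl
  refine ⟨fun e1 ω => (k3 ω).1 (congrFun (congrFun e1 _) _), fun e1 => ?_⟩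
  ext i l
  obtain ⟨i, rfl⟩ := (β x).right.surjective i
  exact (k3 (i, l)).2 (e1 _)

end MON

/-- the dimension of the space of intertwining matrices does not depend on the field -/
theorem rank_mono (h : Function.Injective χ) (h' : Function.Injective χ') {P : Type*} [Group P]
    (α β : P →* Mo ι C) : Module.finrank K (HomSp ((rho χ).comp α) ((rho χ).comp β)) =
      Module.finrank K' (HomSp ((rho χ').comp α) ((rho χ').comp β)) :=
  (MON.rank_eq h α β).trans (MON.rank_eq h' α β).symm

end H73.FL
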