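import Cfsg.Agent.Lib.FLU.Defs
import Cfsg.Agent.Lib.Golay.Perm
import Cfsg.Agent.S2132

/-! # Groups with an elementary abelian group of order eight normalised by an element of order seven -/

set_option autoImplicit false

namespace H73.FL

open Subgroup Cfsg H69 Matrix
open Equiv (Perm)
open scoped MatrixGroups

theorem X7.map {G H : Type*} [Group G] [Group H] (f : G →* H) (hf : Function.Injective f)
    (h : X7 G) : X7 H := by
  obtain ⟨x, y, w, g, x1, x2, xy, xw, c1, c2, c3⟩ := h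
  refine ⟨f x, f y, f w, f g, fun e => x1 (hf (e.trans f.map_one.symm)), ?_, ?_, ?_, ?_, ?_, ?_⟩ <;>
    simp only [← map_inv, ← map_mul, *, map_one]

namespace X7G

theorem sub {G : Type*} [Group G] {H : Subgroup G} {x y w g : G} (hx : x ∈ H) (hg : g ∈ H) (x1 : x ≠ 1)
    (x2 : x * x = 1) (xy : x * y = y * x) (xw : x * w = w * x) (c1 : g * x = y * g) (c2 : g * y = w * g)
    (c3 : g * w = x * y * g) : X7 H := by
  rw [← mul_inv_eq_iff_eq_mul] at c1 c2 c3
  have hy : y ∈ H := c1 ▸ mul_mem (mul_mem hg hx) (inv_mem hg)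
  have hw : w ∈ H := c2 ▸ mul_mem (mul_mem hg hy) (inv_mem hg)
  exact ⟨⟨x, hx⟩, ⟨y, hy⟩, ⟨w, hw⟩, ⟨g, hg⟩, fun e => x1 (congrArg Subtype.val e), Subtype.ext x2, Subtype.ext xy,
    Subtype.ext xw, Subtype.ext c1, Subtype.ext c2, Subtype.ext c3⟩

/-- central extensions by a group of exponent two -/
theorem lift {C Q : Type*} [Group C] [Group Q] (π : C →* Q) (hs : Function.Surjective π)
    (hc : ∀ z, π z = 1 → ∀ a, a * z = z * a) (h2 : ∀ z, π z = 1 → z * z = 1) (h : X7 Q) : X7 C := by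
  obtain ⟨x, _, _, g, x1, x2, xy, xw, rfl, rfl, c3⟩ := h
  obtain ⟨x, rfl⟩ := hs x
  obtain ⟨g, rfl⟩ := hs g
  simp only [← map_inv, ← map_mul] at x2 xy xw c3
  have k : ∀ {a b}, π a = π b → ∃ z, π z = 1 ∧ a = b * z := fun {a b} e =>
    ⟨b⁻¹ * a, by rw [map_mul, map_inv, e, inv_mul_cancel], by rw [mul_inv_cancel_left]⟩
  have cj : ∀ {a b c z}, π z = 1 → a * b = c * z → g * a * g⁻¹ * (g * b * g⁻¹) = g * c * g⁻¹ * z := fun {a b c z} hz e => by
    rw [conj_mul, e, ← mul_assoc, mul_assoc _ z, ← hc z hz, ← mul_assoc]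
  obtain ⟨α, a1, ea⟩ := k xy
  obtain ⟨β, b1, eb⟩ := k xw
  obtain ⟨γ, g1, eg⟩ := k c3
  have s1 := cj x2 (one_mul (x * x)).symm
  generalize hy : g * x * g⁻¹ = y at *
  have e1 := cj a1 ea
  have e2 := cj b1 eb
  have s2 := cj x2 s1
  generalize hw : g * y * g⁻¹ = w at *
  have e3 := cj a1 e1
  have s3 := cj x2 s2
  simp only [← conj_mul, hy, hw, eg, mul_one, mul_inv_cancel, one_mul] at e1 e2 e3 s1 s2 s3
  have b0 : β = 1 := by
    have : x * y * γ * w * α = x * y * γ * w * α * (α * α * β) := by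
      nth_rewrite 1 [← e3]
      calc _ = w * x * β * y * β⁻¹ * γ := by rw [mul_assoc _ β, ← hc β b1]; group
        _ = x * (w * y * α) * α⁻¹ * β⁻¹ * γ := by rw [← eb]; group
        _ = x * y * w * (α⁻¹ * β⁻¹ * γ) := by rw [← e1]; group
        _ = x * y * w * (γ * (α * (α * α * β))) := by
          rw [h2 α a1, one_mul, inv_eq_of_mul_eq_one_right (h2 α a1), inv_eq_of_mul_eq_one_right (h2 β b1), hc γ g1]
        _ = _ := by rw [mul_assoc (x * y) γ, ← hc γ g1 w]; group
    rwa [left_eq_mul, h2 α a1, one_mul] at this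
  have xy : x * y = y * x := by
    rw [b0, mul_one, mul_assoc _ γ, ← hc γ g1, ← mul_assoc, ← mul_assoc, ← mul_assoc, mul_left_inj, mul_left_inj] at e2
    exact e2.symm
  have q : ∀ a b, a * γ * (b * γ) = a * b := fun a b => by
    rw [← mul_assoc, mul_assoc a, ← hc γ g1, mul_assoc, mul_assoc, h2 γ g1, mul_one]
  have xx : x * x = 1 := by
    rw [q, mul_assoc, ← mul_assoc y, ← xy, mul_assoc, ← mul_assoc, s1, h2 _ x2] at s3
    exact s3.symm
  have p : ∀ a, g * (a * γ) * g⁻¹ = g * a * g⁻¹ * γ := fun a => by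
    rw [← mul_assoc, mul_assoc _ γ, ← hc γ g1, ← mul_assoc]
  refine ⟨x * γ, y * γ, w * γ, g, fun e => x1 ?_, by rw [q, xx], by rw [q, q, xy], by rw [q, q, eb, b0, mul_one],
    by rw [p, hy], by rw [p, hw], by rw [p, q, eg, mul_assoc, h2 γ g1, mul_one]⟩
  rw [← mul_one (π x), ← g1, ← map_mul, e, g1, map_one]

theorem x7_A8 : X7 (alternatingGroup (Fin 8)) :=
  sub (x := .swap 0 1 * .swap 2 3 * .swap 4 5 * .swap 6 7) (y := .swap 0 2 * .swap 1 3 * .swap 4 6 * .swap 5 7)
    (w := .swap 0 4 * .swap 1 5 * .swap 2 6 * .swap 3 7)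
    (g := .swap 1 5 * .swap 1 7 * .swap 1 6 * .swap 1 3 * .swap 1 4 * .swap 1 2)
    (Perm.mem_alternatingGroup.2 (by simp)) (Perm.mem_alternatingGroup.2 (by simp)) (by decide +kernel)
    (by decide +kernel) (by decide +kernel) (by decide +kernel) (by decide +kernel) (by decide +kernel)
    (by decide +kernel)

end X7G
open X7G

theorem x7_A10 : X7 (alternatingGroup (Fin 10)) :=
  sub (x := .swap 0 1 * .swap 2 3 * .swap 4 5 * .swap 6 7) (y := .swap 0 2 * .swap 1 3 * .swap 4 6 * .swap 5 7)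
    (w := .swap 0 4 * .swap 1 5 * .swap 2 6 * .swap 3 7)
    (g := .swap 1 5 * .swap 1 7 * .swap 1 6 * .swap 1 3 * .swap 1 4 * .swap 1 2)
    (Perm.mem_alternatingGroup.2 (by simp)) (Perm.mem_alternatingGroup.2 (by simp)) (by decide +kernel)
    (by decide +kernel) (by decide +kernel) (by decide +kernel) (by decide +kernel) (by decide +kernel)
    (by decide +kernel)

theorem x7_A11 : X7 (alternatingGroup (Fin 11)) :=
  sub (x := .swap 0 1 * .swap 2 3 * .swap 4 5 * .swap 6 7) (y := .swap 0 2 * .swap 1 3 * .swap 4 6 * .swap 5 7)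
    (w := .swap 0 4 * .swap 1 5 * .swap 2 6 * .swap 3 7)
    (g := .swap 1 5 * .swap 1 7 * .swap 1 6 * .swap 1 3 * .swap 1 4 * .swap 1 2)
    (Perm.mem_alternatingGroup.2 (by simp)) (Perm.mem_alternatingGroup.2 (by simp)) (by decide +kernel)
    (by decide +kernel) (by decide +kernel) (by decide +kernel) (by decide +kernel) (by decide +kernel)
    (by decide +kernel)

open H15 in
theorem x7_M22 : X7 Spor.M22 := by
  have m : ∀ c, inM24 c = true → ap c 23 = 23 → ap c 0 = 0 → permOf c ∈ Spor.M22 := fun c h h1 h2 =>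
    ⟨⟨permOf_mem_M24 h, by
      have := permOf_pt (okP_of_inM24 h) (i := 23) (by decide)
      rwa [h1] at this⟩, by
      have := permOf_pt (okP_of_inM24 h) (i := 0) (by decide)
      rwa [h2] at this⟩
  have e : ∀ a b c d, okP a = true → okP b = true → okP c = true → okP d = true → mulP a b = mulP c d →
      permOf a * permOf b = permOf c * permOf d := fun a b c d ha hb hc hd k => by
    rw [← permOf_mulP ha hb, ← permOf_mulP hc hd, k]
  refine sub (x := permOf 960153595002361448824514745705641440) (y := permOf 964982036800751298160704307567146336)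
    (w := permOf 975731724751893465500794152023012448) (g := permOf 959532372363666577071221571188823744)
    (m _ ?_ ?_ ?_) (m _ ?_ ?_ ?_) (permOf_ne_one (i := 1) ?_ ?_ ?_) (permOf_idP ▸ permOf_mul_eq ?_ ?_ ?_)
    (e _ _ _ _ ?_ ?_ ?_ ?_ ?_) (e _ _ _ _ ?_ ?_ ?_ ?_ ?_) (e _ _ _ _ ?_ ?_ ?_ ?_ ?_) (e _ _ _ _ ?_ ?_ ?_ ?_ ?_)
    ((e _ _ _ _ ?_ ?_ ?_ ?_ ?_).trans (congrArg (· * _) (permOf_mulP ?_ ?_))) <;> decide +kernel

theorem x7_M23 : X7 Spor.M23 := x7_M22.map (inclusion inf_le_left) (inclusion_injective _)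

theorem x7_McL : X7 Spor.McL := by
  obtain ⟨t, -, h2, ⟨e⟩, -⟩ := Cfsg.Agent.S2132.result.2
  refine (lift (QuotientGroup.mk' (center _)) (QuotientGroup.mk'_surjective _)
    (fun z hz => mem_center_iff.1 ((QuotientGroup.eq_one_iff z).1 hz)) (fun z hz => ?_)
    (x7_A8.map e.symm.toMonoidHom e.symm.injective)).map (Subgroup.subtype _) Subtype.val_injective
  have := pow_card_eq_one' (x := (⟨z, (QuotientGroup.eq_one_iff z).1 hz⟩ : center _))
  rw [h2, pow_two] at this
  exact congrArg Subtype.val this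

end H73.FL
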