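import Cfsg.Agent.Lib.FLU.MON

/-! # The centre of the Sylow 2-subgroup in odd dimension -/

set_option autoImplicit false

namespace H73.FL

open Subgroup Cfsg H69 Matrix
open Equiv (Perm)
open scoped MatrixGroups

variable {n a : ℕ} {K H : Type*} [Field K] [Finite K] [Group H] {χ : CC a →* Kˣ}
  {Γ : Subgroup (GL (Fin n) K)} {π : ↥(Γ ⊓ SK (Fin n) K) →* H}

namespace Z35

theorem cc (t : CC a) : t ^ 2 ^ (a + 1) = 1 := by
  simpa using pow_card_eq_one' (x := t)

theorem gen {k : ℕ} : (Multiplicative.ofAdd 1 : CC a) ^ k = 1 ↔ 2 ^ (a + 1) ∣ k := by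
  rw [← orderOf_dvd_iff_pow_eq_one, orderOf_ofAdd_eq_addOrderOf, ZMod.addOrderOf_one]

theorem z4_iff (hn : Odd n) {W : Subgroup (Mo (Fin n) (CC a))} (m : Md χ W Γ π) : Z4 H ↔
    ∃ x ∈ W ⊓ (SK _ K).comap (rho χ), x * x ≠ 1 ∧ ∀ y ∈ W ⊓ (SK _ K).comap (rho χ), x * y = y * x := by
  have := Fact.mk Nat.prime_two
  have : Finite H := Finite.of_surjective _ m.surj
  let J : ↥(W ⊓ (SK _ K).comap (rho χ)) →* H := π.comp (((rho χ).comp (Subgroup.subtype _)).codRestrict _
    fun x => ⟨m.syl.le ⟨x.1, x.2.1, rfl⟩, x.2.2⟩)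
  have hJ : Function.Injective J := (injective_iff_map_eq_one J).2 fun x e => by
    obtain ⟨e1, e2⟩ := (rho_scalar (x := x.1) m.inj).1 ((m.ker _).1 e)
    refine Subtype.ext (SemidirectProduct.ext (funext fun i => ?_) e1)
    have d : GeneralLinearGroup.det (rho χ x.1) = 1 := x.2.2
    rw [det_rho, e1, map_one, map_one, mul_one, map_eq_one_iff χ m.inj,
      Finset.prod_congr rfl fun j _ => e2 j i, Finset.prod_const, Finset.card_fin] at d
    exact orderOf_eq_one_iff.1 (Nat.eq_one_of_dvd_coprimes (hn.coprime_two_right.pow_right _)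
      (orderOf_dvd_of_pow_eq_one d) (orderOf_dvd_of_pow_eq_one (cc _)))
  have s : IsSylowIn 2 J.range ⊤ := by
    have := (m.syl.inf_normal (N := Γ ⊓ SK _ K) inf_le_left
      (le_normalizer_inf Subgroup.le_normalizer le_normalizer_of_normal)).subgroupOf_top.map π
    rw [map_top_of_surjective π m.surj] at this
    convert this using 1
    ext z
    exact ⟨fun ⟨x, e⟩ => ⟨_, ⟨⟨x, x.2.1, rfl⟩, m.syl.le ⟨x.1, x.2.1, rfl⟩, x.2.2⟩, e⟩,
      fun ⟨y, ⟨⟨x, hx, d⟩, h⟩, e⟩ => ⟨⟨x, hx, (d ▸ y.2.2 : rho χ x ∈ SK _ K)⟩,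
        (congrArg π (Subtype.ext d)).trans e⟩⟩
  refine ⟨fun ⟨S, hS, x, hx, x2, xc⟩ => ?_, fun ⟨x, hx, x2, xc⟩ => ⟨_, s, J ⟨x, hx⟩, ⟨_, rfl⟩,
    fun e => x2 (congrArg Subtype.val (hJ (a₁ := ⟨x, hx⟩ * ⟨x, hx⟩) (a₂ := 1) (by rwa [map_mul, map_one]))), ?_⟩⟩
  · obtain ⟨g, -, e⟩ := hS.conj s
    obtain ⟨z, hz⟩ : g * x * g⁻¹ ∈ J.range := e ▸ cj_mem g hx
    refine ⟨z, z.2, fun d => x2 ?_, fun y hy => congrArg Subtype.val
      (hJ (a₁ := z * ⟨y, hy⟩) (a₂ := ⟨y, hy⟩ * z) ?_)⟩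
    · have := congrArg J (Subtype.ext d : z * z = 1)
      simpa [hz] using this
    · obtain ⟨b, hb, d⟩ := mem_cj'.1 (e ▸ ⟨_, rfl⟩ : J ⟨y, hy⟩ ∈ S ^ᶜ g)
      simp [hz, d, xc b hb]
  · rintro _ ⟨y, rfl⟩
    rw [← map_mul, ← map_mul]
    exact congrArg J (Subtype.ext (xc y y.2))

theorem w3 : ⇑(w0 3) = ![1, 0, 2] := by decide
theorem w5 : ⇑(w0 5) = ![1, 0, 3, 2, 4] := by decide
theorem p3 : ∀ p : Perm (Fin 3), p * w0 3 = w0 3 * p → p⁻¹ 0 = 0 → p = 1 := by decide
theorem p5 : ∀ p : Perm (Fin 5), p * w0 5 = w0 5 * p → p⁻¹ 0 = 0 → p⁻¹ 2 = 2 → p = 1 := by decide +kernel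

omit [Finite K] in
theorem mem {s : Bool} {u : Fin n → CC a} {p : Perm (Fin n)} (h : p * w0 n = w0 n * p)
    (e : ∀ i, u (ww n s i) ^ ee a s = u i)
    (d : χ (∏ i, u i) * Units.map (Int.castRingHom K : ℤ →* K) (Perm.sign p) = 1) :
    (⟨u, p⟩ : Mo (Fin n) (CC a)) ∈ WW n a s ⊓ (SK _ K).comap (rho χ) :=
  ⟨⟨h, e⟩, (det_rho _).trans d⟩

end Z35

open Z35 in
theorem Md.z4 (hn : n = 3 ∨ n = 5) (ha : 2 ≤ a) {s : Bool} (m : Md χ (WW n a s) Γ π) :
    Z4 H ↔ s = true := by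
  rw [z4_iff (by rcases hn with rfl | rfl <;> decide) m]
  set g : CC a := Multiplicative.ofAdd 1
  have g4 : g ^ 4 ≠ 1 := fun e => absurd (Nat.le_of_dvd (by decide) (gen.1 e))
    (not_le.2 (Nat.pow_lt_pow_right (a := 2) (m := 2) (by decide) (by omega)))
  cases s
  · refine iff_of_false (fun ⟨x, hx, x2, xc⟩ => x2 ?_) (by decide)
    obtain ⟨k, hk⟩ : 4 ∣ 2 ^ a := pow_dvd_pow 2 ha
    set e := ee a false
    have he : e + 1 = 4 * k := (Nat.sub_add_cancel Nat.one_le_two_pow).trans hk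
    have c8 : ∀ t : CC a, t ^ (4 * k * 2) = 1 := fun t => by rw [← hk, ← pow_succ]; exact cc t
    have A : ∀ t : CC a, t ^ e = t → t * t = 1 := fun t h => by
      have h1 : t ^ (4 * k) = t * t := by rw [← he, pow_succ, h]
      have h2 := c8 t
      rw [pow_mul, h1, ← pow_two, ← pow_mul] at h2
      rw [← h1, pow_mul]
      exact (congrArg (· ^ k) h2).trans (one_pow _)
    set z := g ^ e * g with hz
    have z1 : z = g ^ (4 * k) := by rw [← he, pow_succ]
    have z2 : z * z = 1 := by rw [z1, ← pow_two, ← pow_mul, c8]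
    have ze : z ^ e = z := by
      apply mul_right_cancel (b := z)
      rw [← pow_succ, he, show 4 * k = 2 * (2 * k) by ring, pow_mul, pow_two, z2, one_pow]
    have ge : (g ^ e) ^ e = g := by
      apply mul_right_cancel (b := g ^ e)
      rw [← pow_succ, he, pow_right_comm, ← z1, ze, mul_comm]
    have g2 : g * g ≠ 1 := fun h => g4 (by rw [show 4 = 2 * 2 from rfl, pow_mul, pow_two g, h, one_pow])
    have n1 : g ^ e ≠ g := fun h => g2 (A g h)
    have n2 : z ≠ g := fun h => g2 (h ▸ z2)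
    have n3 : 1 ≠ g := fun h => g2 (by rw [← h, mul_one])
    have cz : χ z = -1 := by
      have : (χ z : K) * χ z = 1 := by rw [← Units.val_mul, ← map_mul, z2, map_one]; rfl
      refine Units.ext ((mul_self_eq_one_iff.1 this).resolve_left fun h => ?_)
      have := Nat.le_of_dvd (hk ▸ Nat.two_pow_pos a) (gen.1 (z1 ▸ (map_eq_one_iff χ m.inj).1 (Units.ext h)))
      omega
    have B : ∀ u, (⟨u, 1⟩ : Mo (Fin n) _) ∈ WW n _ false ⊓ (SK _ K).comap (rho χ) →
        ∀ i, u (x.right⁻¹ i) = u i := fun u hu i =>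
      mul_left_cancel ((congrArg (·.left i) (xc _ hu)).trans (mul_comm _ _))
    have C : x.right = 1 ∧ ∃ u, (⟨u, w0 n⟩ : Mo (Fin n) _) ∈ WW n _ false ⊓ (SK _ K).comap (rho χ) := by
      have zz : g * g ^ e * z = 1 := by rw [mul_comm g, z2]
      rcases hn with rfl | rfl
      · have := B ![g, g ^ e, z] (mem (by simp) (fun i => by fin_cases i <;> simp [ww, w3, e, ge, ze])
          (by simp [Fin.prod_univ_three, -map_mul, zz])) 0
        refine ⟨p3 _ hx.1.1 ?_, ![1, 1, z], mem rfl (fun i => by fin_cases i <;> simp [ww, w3, e, ze])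
          (by simp [Fin.prod_univ_three, cz, show Perm.sign (w0 3) = -1 by decide])⟩
        generalize x.right⁻¹ 0 = j at this
        fin_cases j <;> simp_all
      · have h0 := B ![g, g ^ e, 1, 1, z] (mem (by simp)
          (fun i => by fin_cases i <;> simp [ww, w5, e, ge, ze])
          (by simp [Fin.prod_univ_five, -map_mul, zz])) 0
        have h2 := B ![1, 1, g, g ^ e, z] (mem (by simp)
          (fun i => by fin_cases i <;> simp [ww, w5, e, ge, ze])
          (by simp [Fin.prod_univ_five, -map_mul, zz])) 2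
        refine ⟨p5 _ hx.1.1 ?_ ?_, 1, mem rfl (by simp)
          (by simp [show Perm.sign (w0 5) = 1 by decide])⟩
        · generalize x.right⁻¹ 0 = j at h0
          fin_cases j <;> simp_all
        · generalize x.right⁻¹ 2 = j at h2
          fin_cases j <;> simp_all
    obtain ⟨r, u, hu⟩ := C
    refine SemidirectProduct.ext (funext fun i => ?_) (by simp [r])
    have := congrArg (·.left (w0 n i)) (xc _ hu)
    simp only [Mo.mul_left, r, inv_one, Perm.one_apply, Perm.coe_inv, Equiv.symm_apply_apply, mul_comm (u _),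
      mul_left_inj] at this
    simpa [Mo.mul_left, r] using A _ ((congrArg (· ^ e) this).symm.trans (hx.1.2 i))
  · refine iff_of_true ?_ rfl
    have e : ∀ t : CC a, (t ^ 2) ^ ee a true = t ^ 2 := fun t => by
      rw [ee, cond_true, pow_succ, ← pow_mul, ← pow_succ', cc, one_mul]
    refine ⟨⟨fun i => (if w0 n i = i then (g ^ (n - 1))⁻¹ else g) ^ 2, 1⟩, mem (by simp) (fun i => e _) ?_,
      fun d => g4 ?_, fun y hy => SemidirectProduct.ext (funext fun i => ?_) (by simp)⟩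
    · rw [Finset.prod_pow]
      rcases hn with rfl | rfl <;>
        simp [Fin.prod_univ_three, Fin.prod_univ_five, w3, w5, -map_mul, pow_succ, mul_assoc]
    · have := congrArg (·.left ⟨0, by omega⟩) d
      rcases hn with rfl | rfl <;> simpa [Mo.mul_left, w3, w5, ← pow_add] using this
    · have : w0 n (y.right⁻¹ i) = y.right⁻¹ (w0 n i) :=
        (ww_comm false (Commute.inv_left hy.1.1 :) i).symm
      simp only [Mo.mul_left, this, EmbeddingLike.apply_eq_iff_eq, inv_one, Perm.one_apply, mul_comm]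

end H73.FL
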